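import Cfsg.Agent.Coset.Table

/-!
Membership from proof slices: a closed walk of proven edges reading a word puts the value of the
word in the subgroup.
-/

set_option autoImplicit false

namespace CfsgLib.Coset

section Kernel

/-- The walk reads the word and returns to node `0`. -/
noncomputable def checkLoop (E iv : Nat → Nat) (eps bd : Nat) (q : List Nat × Nat × Nat) : Bool :=
  cond (noMrk [q.1])
    (walk E iv eps bd (fun p w _ => cond (Nat.beq p 0) (wordEq w []) false) q.2.1 0 q.1 q.2.2) false

end Kernel

variable {G : Type*} [Group G] {L : List G} {H : Subgroup G} {E iv : Nat → Nat}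

theorem ev_mem_of_loops {R : Tr (List Nat × Nat)} {rels subs : List (List Nat)}
    {d d' N nC : Nat} {C : Nat → Nat} {loops : List (List Nat × Nat × Nat)}
    (hiv : ∀ x, fl L (iv x) = (fl L x)⁻¹)
    (hR : checkRules rels subs R = true) (hd : checkDefs E L.length d' N = true)
    (hc : checkChunks E iv R L.length d N nC C = true)
    (hl : allList (checkLoop E iv L.length (N + chunk * nC)) loops = true)
    (hrel : ∀ w ∈ rels, ev L w = 1) (hsub : ∀ w ∈ subs, ev L w ∈ H) :
    ∀ q ∈ loops, ev L q.1 ∈ H := by
  intro q hq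
  have hE := edgeOK_of_check (fl_of_le L le_rfl) hiv (good_of_checkRules hR hrel hsub) hd hc
  have h := allList_iff.mp hl q hq
  unfold checkLoop noMrk at h
  rw [cond_false_eq_true] at h
  have hm : mrk ∉ q.1 := fun hx => by
    have := allList_iff.mp (allList_iff.mp h.1 q.1 (by simp)) mrk hx
    simp [mrk] at this
  have hs : Good L H (ev L q.1) (rp L E 0) q.1 :=
    good_of_ev_eq_one L H q.1 _ hm (by simp [rp_zero])
  obtain ⟨p, w, s, hK, hg⟩ := good_walk (fl_of_le L le_rfl) hiv hE _ _ _ _ hs h.2
  rw [cond_false_eq_true] at hK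
  rw [Nat.eq_of_beq_eq_true hK.1, eq_of_wordEq hK.2] at hg
  simpa [Good, rp_zero] using hg

end CfsgLib.Coset
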