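import Cfsg.Agent.Coset.Fi24.Closure
import Cfsg.Agent.Coset.Fi24.Loop

/-!
Certificates for the hypotheses of the closure argument.
-/

set_option autoImplicit false
set_option maxRecDepth 100000
set_option Elab.async false

namespace CfsgLib.Coset.Fi24

theorem map_fst_genW (U : List (List Nat)) :
    (genW la U).map (MonoidHom.fst Cfsg.Spor.Fi23 (Multiplicative (ZMod 2))) =
      genW Fi23.Lg (U.map proj) := by
  rw [genW, genW, MonoidHom.map_closure]
  congr 1
  ext x
  simp [fst_ev]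

theorem index_le_of_image {U : List (List Nat)} {n m : Nat}
    (hn : n ≤ Nat.card (genW Fi23.Lg (U.map proj))) (hmn : 8178940946586009600 ≤ m * n) :
    (genW la U).index ≤ m ∧ (genW la U).index ≠ 0 := by
  haveI := card_A.1
  refine ⟨?_, Subgroup.FiniteIndex.index_ne_zero⟩
  have h1 : n ≤ Nat.card (genW la U) := by
    refine hn.trans ?_
    rw [← map_fst_genW]
    exact Nat.card_le_card_of_surjective _
      ((MonoidHom.fst Cfsg.Spor.Fi23 (Multiplicative (ZMod 2))).subgroupMap_surjective _)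
  have h2 := Subgroup.card_mul_index (genW la U)
  rw [card_A.2] at h2
  by_contra hc
  have hn0 : 0 < n := Nat.pos_of_ne_zero fun h => by simp [h] at hmn
  have h3 : (m + 1) * n ≤ (genW la U).index * Nat.card (genW la U) := Nat.mul_le_mul (by omega) h1
  rw [mul_comm (genW la U).index, h2, add_mul, one_mul] at h3
  omega

theorem index_SR {U : List (List Nat)} (hU : ∀ x ∈ SR, [x] ∈ U) :
    (genW la U).index ≤ 31671 ∧ (genW la U).index ≠ 0 := by
  haveI := card_A.1
  refine ⟨Nat.le_of_dvd (by norm_num) ?_, Subgroup.FiniteIndex.index_ne_zero⟩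
  have h : Fi23.H.comap (MonoidHom.fst Cfsg.Spor.Fi23 (Multiplicative (ZMod 2))) ≤ genW la U := by
    intro a ha
    have ha' : σA a ⟨0, by decide⟩ = ⟨0, by decide⟩ := by
      rw [Subgroup.mem_comap, Fi23.index_and_eq.2] at ha; exact ha
    refine ((Subgroup.closure_le _).mpr ?_) (pstab_le_SR ha')
    intro y hy
    obtain ⟨l, hl, rfl⟩ := List.mem_map.mp hy
    simpa using ev_mem_genW (L := la) (hU l hl)
  have := Subgroup.index_dvd_of_le h
  rwa [Subgroup.index_comap_of_surjective _ (fun x => ⟨(x, 1), rfl⟩), Fi23.index_and_eq.1] at this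

variable {Γ : Type*} [Group Γ] {L : List Γ}

/-- The hypothesis on one part from its forest and its cases. -/
theorem case_of_cert {P : List Part} {Rw : List Nat} {loops : List (List Nat × Nat × Nat)}
    (hloop : ∀ q ∈ loops, ev L q.1 ∈ HB L) {U : List (List Nat)} {s : List Nat}
    {roots : List Nat} {Par : Nat → Nat} {cases : List (Nat × List Nat × Nat × List Nat)}
    (hl : checkLetters 10 (U.map proj) = true)
    (hf : checkForest Fi23.Top.Tb 31671 15 (U.map proj) roots Par = true)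
    (hc : ∀ r ∈ roots, ∃ q ∈ cases, q.1 = r ∧ checkLetters 10 [proj q.2.1] = true ∧
      (∀ x ∈ q.2.1, x ≠ 1) ∧ follow (tget Fi23.Top.Tb) 0 (proj q.2.1).reverse = r ∧
      (∀ x ∈ q.2.2.2, x ∈ SH) ∧ q.2.2.1 < P.length ∧
      ((loops.map Prod.fst).contains (s ++ q.2.1 ++ Rw.reverse ++ q.2.2.2.reverse ++
        ((P.map Part.s).getD q.2.2.1 []).reverse)) = true)
    (a : A) : ∃ t : List Nat, (∀ x ∈ t, x ≠ 1) ∧
      (∃ u ∈ genW la U, σA a ⟨0, by decide⟩ = σA (u * ev la t) ⟨0, by decide⟩) ∧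
      ∃ c' ∈ P, ∃ h : List Nat, (∀ x ∈ h, x ∈ SH) ∧
        ev L (s ++ t ++ Rw.reverse ++ h.reverse ++ c'.s.reverse) ∈ HB L := by
  obtain ⟨r, hr, β, hβ, g, hg, hge⟩ := forest_sound matches_fst hf (Fi23.len_Lg ▸ hl)
    (S := genW Fi23.Lg (U.map proj)) (fun w hw => ev_mem_genW hw) (σA a ⟨0, by decide⟩)
  rw [← map_fst_genW] at hg
  obtain ⟨u, hu, rfl⟩ := hg
  obtain ⟨⟨b, t, j, h⟩, hq, hb, htl, ht, hfo, hh, hj, hm⟩ := hc r hr
  refine ⟨t, ht, ⟨u, hu, ?_⟩, P[j], List.getElem_mem hj, h, hh, ?_⟩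
  · rw [← hge, map_mul, Equiv.Perm.mul_apply]
    show Fi23.ρ u.1 β = Fi23.ρ u.1 (Fi23.ρ (ev la t).1 ⟨0, by decide⟩)
    refine congrArg _ (Fin.ext ?_)
    have hl' : ∀ l ∈ (proj t).reverse, l < Fi23.Lg.length := fun l hl => by
      rw [Fi23.len_Lg]; exact letters_lt htl _ (List.mem_singleton_self _) l (List.mem_reverse.mp hl)
    have h1 := Fi23.matches_ρ.follow_eq (proj t).reverse (⟨0, by decide⟩ : Fin 31671) hl'
    rw [Fi23.ev_reverse, map_inv, inv_inv, hfo, ← hb] at h1
    rw [hβ, fst_ev, h1, hb]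
  · rw [List.contains_iff_mem] at hm
    obtain ⟨q, hq', he⟩ := List.mem_map.mp hm
    have := hloop q hq'
    rw [he] at this
    simpa [List.getD_eq_getElem?_getD, hj] using this

end CfsgLib.Coset.Fi24
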