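import Cfsg.Agent.Coset.Fi24.Frame
import Cfsg.Agent.Coset.Fi24.ChainData

/-!
Lower bounds for the orders of the groups `⟨b, …, i⟩` and its extension by `q`.
-/

set_option autoImplicit false
set_option maxRecDepth 100000
set_option Elab.async false

namespace CfsgLib.Coset.Fi24

/-- The letters `b, …, i`, as words. -/
def gC : List (List Nat) := [[3], [4], [5], [6], [7], [8], [9], [10], [11]]

/-- The letters `b, …, i` and `q`, as words. -/
def gK : List (List Nat) := [[3], [4], [5], [6], [7], [8], [9], [10], [11]] ++ [Chain.q]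

/-- A word in listed words. -/
def expW (g : List (List Nat)) (v : List Nat) : List Nat := v.flatMap fun i => g.getD i []

theorem ev_expW_mem {G : Type*} [Group G] (L : List G) (g : List (List Nat)) (v : List Nat) :
    ev L (expW g v) ∈ genW L g := by
  induction v with
  | nil => exact one_mem _
  | cons i v ih =>
    rw [expW, List.flatMap_cons, ev_append]
    refine mul_mem ?_ ih
    rcases lt_or_ge i g.length with hi | hi
    · rw [List.getD_eq_getElem _ _ hi]; exact ev_mem_genW (List.getElem_mem hi)
    · rw [List.getD_eq_default _ _ hi]; exact one_mem _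

theorem proj_append (u v : List Nat) : proj (u ++ v) = proj u ++ proj v := by simp [proj]

theorem proj_expW (g : List (List Nat)) (v : List Nat) :
    proj (expW g v) = expW (g.map proj) v := by
  induction v with
  | nil => rfl
  | cons i v ih =>
    simp only [expW, List.flatMap_cons] at ih ⊢
    rw [proj_append, ih]
    congr 1
    rw [show ([] : List Nat) = proj [] from rfl, List.getD_map]
    rfl

theorem orbit_K20 : checkOrbit Fi23.Top.Tb 11 28431 15 Chain.K2L0W Chain.K2L0P Chain.K2L0Inv = true := by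
  decide +kernel

theorem words_K20 : Chain.K2L0W = Chain.K2L0G.map (fun v => proj (expW gK v)) := by
  decide +kernel

theorem orbit_K21 : checkOrbit Fi23.Top.Tb 128 22400 15 Chain.K2L1W Chain.K2L1P Chain.K2L1Inv = true := by
  decide +kernel

theorem words_K21 : Chain.K2L1W = Chain.K2L1G.map (fun v => proj (expW gK v)) := by
  decide +kernel

theorem orbit_K22 : checkOrbit Fi23.Top.Tb 516 7776 13 Chain.K2L2W Chain.K2L2P Chain.K2L2Inv = true := by
  decide +kernel

theorem words_K22 : Chain.K2L2W = Chain.K2L2G.map (fun v => proj (expW gK v)) := by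
  decide +kernel

theorem orbit_K23 : checkOrbit Fi23.Top.Tb 0 6 3 Chain.K2L3W Chain.K2L3P Chain.K2L3Inv = true := by
  decide +kernel

theorem words_K23 : Chain.K2L3W = Chain.K2L3G.map (fun v => proj (expW gK v)) := by
  decide +kernel

theorem orbit_C0 : checkOrbit Fi23.Top.Tb 11 28431 15 Chain.CL0W Chain.CL0P Chain.CL0Inv = true := by
  decide +kernel

theorem words_C0 : Chain.CL0W = Chain.CL0G.map (fun v => proj (expW gC v)) := by
  decide +kernel

theorem orbit_C1 : checkOrbit Fi23.Top.Tb 128 22400 15 Chain.CL1W Chain.CL1P Chain.CL1Inv = true := by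
  decide +kernel

theorem words_C1 : Chain.CL1W = Chain.CL1G.map (fun v => proj (expW gC v)) := by
  decide +kernel

theorem orbit_C2 : checkOrbit Fi23.Top.Tb 516 7776 13 Chain.CL2W Chain.CL2P Chain.CL2Inv = true := by
  decide +kernel

theorem words_C2 : Chain.CL2W = Chain.CL2G.map (fun v => proj (expW gC v)) := by
  decide +kernel

theorem orbit_C3 : checkOrbit Fi23.Top.Tb 0 2 1 Chain.CL3W Chain.CL3P Chain.CL3Inv = true := by
  decide +kernel

theorem words_C3 : Chain.CL3W = Chain.CL3G.map (fun v => proj (expW gC v)) := by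
  decide +kernel

theorem card_C_lower : 9904359628800 ≤ Nat.card (genW Fi23.Lg (gC.map proj)) := by
  have := Fi23.card_le.1
  set T := genW Fi23.Lg (gC.map proj) with hT
  have hmem : ∀ vs ws : List (List Nat), ws = vs.map (fun v => proj (expW gC v)) → ∀ w ∈ ws,
      ev Fi23.Lg w ∈ T := by
    intro vs ws hws w hw
    rw [hws] at hw
    obtain ⟨v, -, rfl⟩ := List.mem_map.mp hw
    rw [proj_expW]
    exact ev_expW_mem _ _ v
  have h3 := orbit_step_in Fi23.matches_ρ T (base := [(11 : Fin 31671), (128 : Fin 31671), (516 : Fin 31671)]) (β := (0 : Fin 31671))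
    (m := 2) (dm := 1) (gens := Chain.CL3W)
    (P := Chain.CL3P) (Inv := Chain.CL3Inv)
    orbit_C3 (by decide +kernel) (by decide +kernel) (hmem Chain.CL3G Chain.CL3W words_C3) (show 1 ≤ Nat.card (T ⊓ baseStab Fi23.ρ [(11 : Fin 31671), (128 : Fin 31671), (516 : Fin 31671), (0 : Fin 31671)] : Subgroup Cfsg.Spor.Fi23) from Nat.card_pos)
  have h2 := orbit_step_in Fi23.matches_ρ T (base := [(11 : Fin 31671), (128 : Fin 31671)]) (β := (516 : Fin 31671))
    (m := 7776) (dm := 13) (gens := Chain.CL2W)
    (P := Chain.CL2P) (Inv := Chain.CL2Inv)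
    orbit_C2 (by decide +kernel) (by decide +kernel) (hmem Chain.CL2G Chain.CL2W words_C2) h3
  have h1 := orbit_step_in Fi23.matches_ρ T (base := [(11 : Fin 31671)]) (β := (128 : Fin 31671))
    (m := 22400) (dm := 15) (gens := Chain.CL1W)
    (P := Chain.CL1P) (Inv := Chain.CL1Inv)
    orbit_C1 (by decide +kernel) (by decide +kernel) (hmem Chain.CL1G Chain.CL1W words_C1) h2
  have h0 := orbit_step_in Fi23.matches_ρ T (base := ([] : List (Fin 31671))) (β := (11 : Fin 31671))
    (m := 28431) (dm := 15) (gens := Chain.CL0W)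
    (P := Chain.CL0P) (Inv := Chain.CL0Inv)
    orbit_C0 (by decide +kernel) (by decide +kernel) (hmem Chain.CL0G Chain.CL0W words_C0) h1
  simpa [baseStab] using h0

theorem card_K_lower : 29713078886400 ≤ Nat.card (genW Fi23.Lg (gK.map proj)) := by
  have := Fi23.card_le.1
  set T := genW Fi23.Lg (gK.map proj) with hT
  have hmem : ∀ vs ws : List (List Nat), ws = vs.map (fun v => proj (expW gK v)) → ∀ w ∈ ws,
      ev Fi23.Lg w ∈ T := by
    intro vs ws hws w hw
    rw [hws] at hw
    obtain ⟨v, -, rfl⟩ := List.mem_map.mp hw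
    rw [proj_expW]
    exact ev_expW_mem _ _ v
  have h3 := orbit_step_in Fi23.matches_ρ T (base := [(11 : Fin 31671), (128 : Fin 31671), (516 : Fin 31671)]) (β := (0 : Fin 31671))
    (m := 6) (dm := 3) (gens := Chain.K2L3W)
    (P := Chain.K2L3P) (Inv := Chain.K2L3Inv)
    orbit_K23 (by decide +kernel) (by decide +kernel) (hmem Chain.K2L3G Chain.K2L3W words_K23) (show 1 ≤ Nat.card (T ⊓ baseStab Fi23.ρ [(11 : Fin 31671), (128 : Fin 31671), (516 : Fin 31671), (0 : Fin 31671)] : Subgroup Cfsg.Spor.Fi23) from Nat.card_pos)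
  have h2 := orbit_step_in Fi23.matches_ρ T (base := [(11 : Fin 31671), (128 : Fin 31671)]) (β := (516 : Fin 31671))
    (m := 7776) (dm := 13) (gens := Chain.K2L2W)
    (P := Chain.K2L2P) (Inv := Chain.K2L2Inv)
    orbit_K22 (by decide +kernel) (by decide +kernel) (hmem Chain.K2L2G Chain.K2L2W words_K22) h3
  have h1 := orbit_step_in Fi23.matches_ρ T (base := [(11 : Fin 31671)]) (β := (128 : Fin 31671))
    (m := 22400) (dm := 15) (gens := Chain.K2L1W)
    (P := Chain.K2L1P) (Inv := Chain.K2L1Inv)
    orbit_K21 (by decide +kernel) (by decide +kernel) (hmem Chain.K2L1G Chain.K2L1W words_K21) h2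
  have h0 := orbit_step_in Fi23.matches_ρ T (base := ([] : List (Fin 31671))) (β := (11 : Fin 31671))
    (m := 28431) (dm := 15) (gens := Chain.K2L0W)
    (P := Chain.K2L0P) (Inv := Chain.K2L0Inv)
    orbit_K20 (by decide +kernel) (by decide +kernel) (hmem Chain.K2L0G Chain.K2L0W words_K20) h1
  simpa [baseStab] using h0

end CfsgLib.Coset.Fi24
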