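import Cfsg.Agent.Coset.Fi24.Frame

/-!
The closure argument: a union of double cosets of the subgroup of all letters but `k`, closed under
one further element, is the whole group.
-/

set_option autoImplicit false
set_option maxRecDepth 100000
set_option Elab.async false

namespace CfsgLib.Coset.Fi24

section Kernel

/-- Every point reaches a root through the words. -/
noncomputable def checkForest (Tb : Nat → Nat) (n dn : Nat) (gens : List (List Nat))
    (roots : List Nat) (Par : Nat → Nat) : Bool :=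
  allBelow dn n fun i => cond (List.rec false (fun r _ ih => cond (Nat.beq r i) true ih) roots) true
    (cond (Nat.ble (Nat.add (field (Par i) 0) 1) n)
      (cond (Nat.ble (Nat.add (field (Par (field (Par i) 0)) 2) 1) (field (Par i) 2))
        (Nat.beq (follow (tget Tb) (field (Par i) 0) (gens.getD (field (Par i) 1) [])) i) false) false)

end Kernel

theorem forest_sound {G : Type*} [Group G] {L : List G} {n : Nat} {Tb : Nat → Nat}
    {ρ : G →* Equiv.Perm (Fin n)} (hm : Matches L ρ Tb) {dn : Nat} {gens : List (List Nat)}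
    {roots : List Nat} {Par : Nat → Nat} (hc : checkForest Tb n dn gens roots Par = true)
    (hl : checkLetters L.length gens = true) {S : Subgroup G} (hS : ∀ w ∈ gens, ev L w ∈ S)
    (i : Fin n) : ∃ r ∈ roots, ∃ β : Fin n, (β : Nat) = r ∧ i ∈ orb ρ S β := by
  obtain ⟨d, hd⟩ : ∃ d, field (Par i) 2 = d := ⟨_, rfl⟩
  induction d using Nat.strong_induction_on generalizing i with
  | _ d ih =>
    have h : cond (List.rec false (fun r _ ih => cond (Nat.beq r i) true ih) roots) true _ = true :=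
      of_allBelow hc i i.2
    cases hr : (List.rec false (fun r _ ih => cond (Nat.beq r (i : Nat)) true ih) roots : Bool)
    · rw [hr, cond_false, cond_false_eq_true, cond_false_eq_true] at h
      obtain ⟨h1, h2, h3⟩ := h
      obtain ⟨r, hr', β, hβ, g, hg, hge⟩ := ih (field (Par (field (Par i) 0)) 2)
        (hd ▸ Nat.ble_eq.mp h2) ⟨_, Nat.ble_eq.mp h1⟩ rfl
      refine ⟨r, hr', β, hβ, (ev L (gens.getD (field (Par i) 1) []))⁻¹ * g, ?_, ?_⟩
      · refine mul_mem (inv_mem ?_) hg
        rcases lt_or_ge (field (Par i) 1) gens.length with hi | hi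
        · rw [List.getD_eq_getElem _ _ hi]; exact hS _ (List.getElem_mem hi)
        · rw [List.getD_eq_default _ _ hi]; exact S.one_mem
      · rw [map_mul, Equiv.Perm.mul_apply, hge, map_inv]
        exact Fin.ext ((hm.follow_eq _ _ (letters_getD hl _)).trans (Nat.eq_of_beq_eq_true h3))
    · have : (i : Nat) ∈ roots := by
        clear h ih hd hc
        induction roots with
        | nil => simp at hr
        | cons a t iht =>
          change cond (Nat.beq a i) true _ = true at hr
          cases hb : Nat.beq a (i : Nat)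
          · rw [hb, cond_false] at hr; exact List.mem_cons_of_mem _ (iht hr)
          · simp [Nat.eq_of_beq_eq_true hb]
      exact ⟨i, this, i, rfl, self_mem_orb S i⟩

/-- The action of `A` on 31671 points. -/
noncomputable abbrev σA : A →* Equiv.Perm (Fin 31671) :=
  Fi23.ρ.comp (MonoidHom.fst _ _)

theorem matches_fst : Matches Fi23.Lg Fi23.ρ Fi23.Top.Tb := Fi23.matches_ρ

/-- A representative with elements conjugated by it into the subgroup, and a bound for the index
they give. -/
structure Part where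
  /-- the representative -/
  s : List Nat
  /-- elements conjugated into the subgroup -/
  U : List (List Nat)
  /-- the bound -/
  m : Nat

/-- The letters fixing the point `0`. -/
def SR : List Nat := [0, 2, 3, 4, 5, 6, 7, 8, 10, 11]

theorem pstab_le_SR {a : A} (ha : σA a ⟨0, by decide⟩ = ⟨0, by decide⟩) : a ∈ genBy la SR := by
  obtain ⟨x, e⟩ := a
  have hx : x ∈ Fi23.H := by rw [Fi23.index_and_eq.2]; exact ha
  have h0 : ((1, tau) : A) ∈ genBy la SR := by
    simpa [fl_la_zero] using ev_mem_genBy (L := la) SR (w := [0]) (by simp [SR])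
  have h1 : ∀ y : Cfsg.Spor.Fi23, y ∈ Fi23.H → ((y, 1) : A) ∈ genBy la SR := by
    intro y hy
    induction hy using Subgroup.closure_induction with
    | mem z hz =>
      obtain ⟨v, hv, rfl⟩ := hz
      have key : ∀ v ∈ Fi23.Top.subs, ∃ l < 10, v = [l] ∧ (l + 2) ∈ SR := by decide +kernel
      obtain ⟨l, hl, rfl, hm⟩ := key v hv
      have := mul_mem (ev_mem_genBy (L := la) SR (w := [l + 2]) (by simpa using hm)) h0
      simpa [ev_cons, fl_la_add hl, tau_sq] using this
    | one => exact one_mem _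
    | mul a b _ _ ha hb => simpa using mul_mem ha hb
    | inv a _ ha => simpa using inv_mem ha
  rcases (by decide +kernel : ∀ e : Multiplicative (ZMod 2), e = 1 ∨ e = tau) e with rfl | rfl
  · exact h1 x hx
  · simpa using mul_mem (h1 x hx) h0

variable {Γ : Type*} [Group Γ] {L : List Γ}

/-- The closure bound. -/
theorem Frame.closure_bound (hF : Frame L) (P : List Part) (Rw : List Nat)
    (hU : ∀ c ∈ P, ∀ u ∈ c.U, (∀ x ∈ u, x ≠ 1) ∧ ev L (c.s ++ u ++ c.s.reverse) ∈ HB L)
    (hidx : ∀ c ∈ P, (genW la c.U).index ≤ c.m ∧ (genW la c.U).index ≠ 0)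
    (hR : ∀ x ∈ SR, ev L (Rw ++ [x] ++ Rw.reverse) ∈ HB L)
    (hcase : ∀ c ∈ P, ∀ a : A, ∃ t : List Nat, (∀ x ∈ t, x ≠ 1) ∧
      (∃ u ∈ genW la c.U, σA a ⟨0, by decide⟩ = σA (u * ev la t) ⟨0, by decide⟩) ∧
      ∃ c' ∈ P, ∃ h : List Nat, (∀ x ∈ h, x ∈ SH) ∧
        ev L (c.s ++ t ++ Rw.reverse ++ h.reverse ++ c'.s.reverse) ∈ HB L)
    (hone : ∃ c ∈ P, c.s = [])
    (hk : fl L 1 ∈ Subgroup.closure ((HB L : Set Γ) ∪ {ev L Rw})) :
    Finite Γ ∧ Nat.card Γ ≤ 8178940946586009600 * (P.map Part.m).sum := by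
  classical
  have hH := hF.card_HB
  haveI := hH.1
  haveI := card_A.1
  set H := HB L
  let X : Set Γ := {g | ∃ c ∈ P, ∃ h ∈ H, ∃ a : A, g = h * ev L c.s * hF.Ψ a}
  -- elements of the generated subgroups are conjugated into `H`
  have hconj : ∀ c ∈ P, ∀ v ∈ genW la c.U, ev L c.s * hF.Ψ v * (ev L c.s)⁻¹ ∈ H := by
    intro c hc v hv
    induction hv using Subgroup.closure_induction with
    | mem y hy =>
      obtain ⟨u, hu, rfl⟩ := hy
      obtain ⟨h1, h2⟩ := hU c hc u hu
      rw [hF.Ψ_ev u h1]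
      simpa [ev_append, ev_reverse' hF.sq, mul_assoc] using h2
    | one => simp
    | mul a b _ _ ha hb => simpa [mul_assoc] using H.mul_mem ha hb
    | inv a _ ha => simpa [mul_assoc] using H.inv_mem ha
  -- the bound
  have hfin : X.Finite ∧ X.ncard ≤ 8178940946586009600 * (P.map Part.m).sum := by
    let F : (Σ i : Fin P.length, A ⧸ genW la (P[i.val]).U) × H → Γ :=
      fun p => (p.2 : Γ) * ev L (P[p.1.1.val]).s * (hF.Ψ p.1.2.out)⁻¹
    have hX : X ⊆ Set.range F := by
      rintro g ⟨c, hc, h, hh, a, rfl⟩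
      obtain ⟨i, hi, rfl⟩ := List.getElem_of_mem hc
      set q : A ⧸ genW la (P[i]).U := QuotientGroup.mk a⁻¹
      have hv : (q.out)⁻¹ * a⁻¹ ∈ genW la (P[i]).U := QuotientGroup.eq.mp q.out_eq'
      set v := (q.out)⁻¹ * a⁻¹
      refine ⟨(⟨⟨i, hi⟩, q⟩, ⟨h * (ev L (P[i]).s * hF.Ψ v⁻¹ * (ev L (P[i]).s)⁻¹),
        H.mul_mem hh (hconj _ hc _ (inv_mem hv))⟩), ?_⟩
      show h * (ev L (P[i]).s * hF.Ψ v⁻¹ * (ev L (P[i]).s)⁻¹) * ev L (P[i]).s * (hF.Ψ q.out)⁻¹ = _
      simp [v, mul_assoc]
    have hsum : Nat.card ((Σ i : Fin P.length, A ⧸ genW la (P[i.val]).U) × H) ≤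
        8178940946586009600 * (P.map Part.m).sum := by
      rw [Nat.card_prod, mul_comm]
      refine Nat.mul_le_mul hH.2 ?_
      rw [Nat.card_sigma]
      have e : (P.map Part.m).sum = ∑ i : Fin P.length, (P[i.val]).m := by
        rw [← List.sum_ofFn]; congr 1; apply List.ext_getElem <;> simp
      rw [e]
      exact Finset.sum_le_sum fun i _ => (hidx _ (List.getElem_mem i.2)).1
    exact ⟨(Set.finite_range F).subset hX, (Set.ncard_le_ncard hX (Set.finite_range F)).trans
      ((Finite.card_range_le F).trans hsum)⟩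
  -- invariance
  have hXH : ∀ g ∈ X, ∀ h ∈ H, g * h ∈ X := by
    rintro g ⟨c, hc, h₁, hh₁, a, rfl⟩ h hh
    rw [show H = hF.Ψ.range from hF.range_Ψ.symm] at hh
    obtain ⟨b, rfl⟩ := hh
    exact ⟨c, hc, h₁, hh₁, a * b, by simp [mul_assoc]⟩
  have hXR : ∀ g ∈ X, g * (ev L Rw)⁻¹ ∈ X := by
    rintro g ⟨c, hc, h₁, hh₁, a, rfl⟩
    obtain ⟨t, ht1, ⟨u, hu, hp⟩, c', hc', h, hh, hloop⟩ := hcase c hc a
    set v : A := (u * ev la t)⁻¹ * a with hv
    have hvfix : σA v ⟨0, by decide⟩ = ⟨0, by decide⟩ := by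
      rw [hv, map_mul, Equiv.Perm.mul_apply, hp, ← Equiv.Perm.mul_apply, ← map_mul,
        inv_mul_cancel, map_one, Equiv.Perm.one_apply]
    have hvR : ev L Rw * hF.Ψ v * (ev L Rw)⁻¹ ∈ H := by
      have key : ∀ y ∈ genBy la SR, ev L Rw * hF.Ψ y * (ev L Rw)⁻¹ ∈ H := by
        intro y hy
        induction hy using Subgroup.closure_induction with
        | mem y hy =>
          obtain ⟨l, hl, rfl⟩ := List.mem_map.mp hy
          rw [hF.Ψ_fl (fun h => by subst h; simp [SR] at hl)]
          simpa [ev_append, ev_reverse' hF.sq, mul_assoc] using hR l hl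
        | one => simp
        | mul a b _ _ ha hb => simpa [mul_assoc] using H.mul_mem ha hb
        | inv a _ ha => simpa [mul_assoc] using H.inv_mem ha
      exact key v (pstab_le_SR hvfix)
    simp only [ev_append, ev_reverse' hF.sq] at hloop
    set hw : Γ := ev L h
    have hhw : hw ∈ H := ev_mem_genBy SH hh
    have ea : a = u * ev la t * v := by rw [hv, mul_inv_cancel_left]
    obtain ⟨b, hb⟩ : hw * (ev L Rw * hF.Ψ v * (ev L Rw)⁻¹) ∈ hF.Ψ.range :=
      hF.range_Ψ.symm ▸ H.mul_mem hhw hvR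
    refine ⟨c', hc', h₁ * (ev L c.s * hF.Ψ u * (ev L c.s)⁻¹) *
      (ev L c.s * ev L t * (ev L Rw)⁻¹ * hw⁻¹ * (ev L c'.s)⁻¹),
      H.mul_mem (H.mul_mem hh₁ (hconj c hc u hu)) hloop, b, ?_⟩
    rw [hb, ea, map_mul, map_mul, hF.Ψ_ev t ht1]
    simp [mul_assoc]
  -- the union is everything
  have honeX : (1 : Γ) ∈ X := by
    obtain ⟨c, hc, hs⟩ := hone
    exact ⟨c, hc, 1, one_mem _, 1, by simp [hs]⟩
  have hXR' : ∀ g ∈ X, g * ev L Rw ∈ X := by
    intro g hg
    have him : (fun x => x * (ev L Rw)⁻¹) '' X = X :=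
      Set.eq_of_subset_of_ncard_le (by rintro _ ⟨x, hx, rfl⟩; exact hXR x hx)
        (by rw [Set.ncard_image_of_injective _ (mul_left_injective _)]) hfin.1
    rw [← him] at hg
    obtain ⟨x, hx, rfl⟩ := hg
    simpa using hx
  have hgen : Subgroup.closure ((H : Set Γ) ∪ {ev L Rw}) = ⊤ := by
    rw [eq_top_iff, ← hF.gen, Subgroup.closure_le]
    intro x hx
    obtain ⟨l, hl, rfl⟩ := List.getElem_of_mem hx
    rw [← List.getD_eq_getElem L 1 hl]
    rcases eq_or_ne l 1 with rfl | h1
    · exact hk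
    · refine Subgroup.subset_closure (Or.inl (Subgroup.subset_closure (List.mem_map.mpr ⟨l, ?_, rfl⟩)))
      have hl' : l < 12 := hF.len ▸ hl
      interval_cases l <;> simp [SH] at *
  have huniv : ∀ g : Γ, g ∈ X := by
    intro g
    have hg : g ∈ Subgroup.closure ((H : Set Γ) ∪ {ev L Rw}) := hgen ▸ Subgroup.mem_top g
    induction hg using Subgroup.closure_induction_right with
    | one => exact honeX
    | mul_right x hx y hy ih =>
      rcases hy with hy | hy
      · exact hXH x ih y hy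
      · rw [Set.mem_singleton_iff.mp hy]; exact hXR' x ih
    | mul_inv_cancel x hx y hy ih =>
      rcases hy with hy | hy
      · exact hXH x ih _ (H.inv_mem hy)
      · rw [Set.mem_singleton_iff.mp hy]; exact hXR x ih
  have hX : X = Set.univ := Set.eq_univ_of_forall huniv
  rw [hX] at hfin
  haveI : Finite Γ := Set.finite_univ_iff.mp hfin.1
  exact ⟨inferInstance, (Set.ncard_univ Γ).symm.trans_le hfin.2⟩

end CfsgLib.Coset.Fi24
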