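import Mathlib.GroupTheory.Index
import Mathlib.GroupTheory.GroupAction.Quotient
import Mathlib.Data.Set.Card
import Mathlib.Data.Set.Card.Arithmetic
import Mathlib.Algebra.BigOperators.Group.Finset.Basic
import Mathlib.Algebra.Order.BigOperators.Group.Finset

/-!
An equivariant map from representatives: if the orbits of the listed pairs are no larger than the
set, and their first components cover it, they form the graph of a map.
-/

set_option autoImplicit false

namespace CfsgLib.Coset.Fi24

open scoped Classical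

variable {A Ω : Type*} [Group A] [Finite A] [Finite Ω] (act : A →* Equiv.Perm Ω) (K : Subgroup A)

/-- The bound for the orbit of a pair from a subgroup fixing it. -/
theorem pair_orbit_bound {S : Subgroup A} (hS : S ≤ K) {x y : Ω}
    (hx : ∀ s ∈ S, act s x = x) (hy : ∀ s ∈ S, act s y = y) {m : Nat}
    (hm : Nat.card K ≤ m * Nat.card S) :
    (Set.range fun k : K => (act k x, act k y)).ncard ≤ m := by
  let f : K ⧸ S.subgroupOf K → Ω × Ω := Quotient.lift (fun k : K => (act k x, act k y))
    (fun a b hab => by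
      have h0 : a⁻¹ * b ∈ S.subgroupOf K := QuotientGroup.leftRel_apply.mp hab
      have h1 : ((a : A)⁻¹ * b) ∈ S := Subgroup.mem_subgroupOf.mp h0
      have e : (b : A) = a * ((a : A)⁻¹ * b) := by simp
      show (act a x, act a y) = (act b x, act b y)
      rw [e, map_mul, Equiv.Perm.mul_apply, Equiv.Perm.mul_apply, hx _ h1, hy _ h1])
  have hsub : (Set.range fun k : K => (act k x, act k y)) ⊆ Set.range f := by
    rintro _ ⟨k, rfl⟩; exact ⟨QuotientGroup.mk k, rfl⟩
  refine (Set.ncard_le_ncard hsub (Set.finite_range f)).trans ((Finite.card_range_le f).trans ?_)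
  have h1 : Nat.card (K ⧸ S.subgroupOf K) * Nat.card S = Nat.card K := by
    rw [← Nat.card_congr (Subgroup.subgroupOfEquivOfLe hS).toEquiv]
    exact (Subgroup.card_eq_card_quotient_mul_card_subgroup _).symm
  exact Nat.le_of_mul_le_mul_right (h1.trans_le hm) Nat.card_pos

theorem exists_equivariant {ι : Type*} [Fintype ι] (x y : ι → Ω) (m : ι → Nat)
    (hm : ∀ i, (Set.range fun k : K => (act k (x i), act k (y i))).ncard ≤ m i)
    (hsum : ∑ i, m i ≤ Nat.card Ω) (hcov : ∀ ω, ∃ i, ∃ k ∈ K, act k (x i) = ω) :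
    ∃ f : Ω → Ω, (∀ i, ∀ k ∈ K, f (act k (x i)) = act k (y i)) ∧
      ∀ i, (Set.range fun k : K => act k (x i)).ncard = m i := by
  set O : ι → Set (Ω × Ω) := fun i => Set.range fun k : K => (act k (x i), act k (y i)) with hO
  set P : ι → Set Ω := fun i => Set.range fun k : K => act k (x i) with hP
  have hPO : ∀ i, P i = Prod.fst '' O i := fun i => by
    rw [hO, hP, ← Set.range_comp]; rfl
  set U : Set (Ω × Ω) := ⋃ i, O i
  have hcovU : Prod.fst '' U = Set.univ := by
    refine Set.eq_univ_of_forall fun ω => ?_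
    obtain ⟨i, k, hk, rfl⟩ := hcov ω
    exact ⟨_, Set.mem_iUnion.mpr ⟨i, ⟨⟨k, hk⟩, rfl⟩⟩, rfl⟩
  have hUle : U.ncard ≤ ∑ i, (O i).ncard := Set.ncard_iUnion_le_of_fintype O
  have h1 : Nat.card Ω ≤ U.ncard := by
    rw [← Set.ncard_univ, ← hcovU]; exact Set.ncard_image_le (Set.toFinite _)
  have h2 : ∑ i, (O i).ncard ≤ ∑ i, m i := Finset.sum_le_sum fun i _ => hm i
  have hinj : Set.InjOn Prod.fst U := by
    refine (Set.ncard_image_iff (Set.toFinite _)).mp ?_
    rw [hcovU, Set.ncard_univ]; omega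
  have hOm : ∀ i, (O i).ncard = m i := fun i =>
    (Finset.sum_eq_sum_iff_of_le (f := fun i => (O i).ncard) (g := m) fun i _ => hm i).mp (by omega) i (Finset.mem_univ i)
  choose g hg using fun ω => (hcovU.symm ▸ Set.mem_univ ω : ω ∈ Prod.fst '' U)
  refine ⟨fun ω => (g ω).2, fun i k hk => ?_, fun i => ?_⟩
  · have hmem : (act k (x i), act k (y i)) ∈ U := Set.mem_iUnion.mpr ⟨i, ⟨⟨k, hk⟩, rfl⟩⟩
    exact congrArg Prod.snd (hinj (hg _).1 hmem (hg _).2)
  · show (P i).ncard = m i
    rw [hPO, (hinj.mono (Set.subset_iUnion O i)).ncard_image, hOm]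

end CfsgLib.Coset.Fi24
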