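import Cfsg.Agent.Coset.Fi24.Hat

/-!
In a group with twelve generators satisfying the relators of `Fi₂₄` other than the long one, the
generators other than `k` generate an image of `Fi23 × 2`.
-/

set_option autoImplicit false
set_option maxRecDepth 100000
set_option Elab.async false

namespace CfsgLib.Coset.Fi24

/-- The group `Fi23 × 2`. -/
abbrev A : Type := Cfsg.Spor.Fi23 × Multiplicative (ZMod 2)

/-- The involution of the second factor. -/
def tau : Multiplicative (ZMod 2) := Multiplicative.ofAdd 1

/-- The letters other than `k`. -/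
def SH : List Nat := [0, 2, 3, 4, 5, 6, 7, 8, 9, 10, 11]

/-- The generators in `A`, numbered as those of `Fi₂₄`; the letter `k` goes to `1`. -/
noncomputable def la : List A :=
  (1, tau) :: 1 :: Fi23.Lg.map fun x => (x, tau)

theorem len_la : la.length = 12 := rfl

theorem fl_la_zero : fl la 0 = (1, tau) := rfl

theorem fl_la_one : fl la 1 = 1 := rfl

theorem fl_la_add {l : Nat} (h : l < 10) : fl la (l + 2) = (fl Fi23.Lg l, tau) := by
  show List.getD (Fi23.Lg.map fun x => (x, tau)) l 1 = (List.getD Fi23.Lg l 1, tau)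
  have hlen : l < Fi23.Lg.length := by rw [Fi23.len_Lg]; exact h
  rw [List.getD_eq_getElem _ _ (by rw [List.length_map]; exact hlen),
    List.getD_eq_getElem _ _ hlen, List.getElem_map]

theorem tau_sq : tau * tau = 1 := by decide +kernel

theorem sq_la (l : Nat) : fl la l * fl la l = 1 := by
  rcases lt_or_ge l 12 with hl | hl
  · match l, hl with
    | 0, _ => rw [fl_la_zero, Prod.mk_mul_mk, mul_one, tau_sq]; rfl
    | 1, _ => rw [fl_la_one, mul_one]
    | l + 2, hl => rw [fl_la_add (by omega), Prod.mk_mul_mk, Fi23.sq_all, tau_sq]; rfl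
  · rw [fl_of_le _ (len_la ▸ hl), mul_one]

theorem card_A : Finite A ∧ Nat.card A = 8178940946586009600 := by
  have := Fi23.card_le.1
  refine ⟨inferInstance, ?_⟩
  rw [Nat.card_prod, Fi23.card_and_injective.1, Nat.card_eq_fintype_card (α := Multiplicative (ZMod 2)),
    Fintype.card_multiplicative, ZMod.card]

/-- The letters of a word other than `l` and `k`, renumbered. -/
def proj (w : List Nat) : List Nat := (w.filter fun x => decide (2 ≤ x)).map (· - 2)

/-- The parity of a word in `A`. -/
def par2 (w : List Nat) : Nat := (w.filter fun x => decide (x < 12) && decide (x ≠ 1)).length % 2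

theorem tau_pow_mod (n : Nat) : tau ^ (n % 2) = tau ^ n := by
  conv_rhs => rw [← Nat.mod_add_div n 2, pow_add, pow_mul, pow_two, tau_sq, one_pow, mul_one]

theorem ev_la : ∀ w : List Nat, ev la w = (ev Fi23.Lg (proj w), tau ^ par2 w) := by
  intro w
  induction w with
  | nil => simp [proj, par2]; rfl
  | cons x w ih =>
    rw [ev_cons, ih]
    rcases lt_or_ge x 12 with hx | hx
    · match x, hx with
      | 0, _ =>
        rw [fl_la_zero, Prod.mk_mul_mk, one_mul]
        refine Prod.ext (by simp [proj]) ?_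
        simp [par2, tau_pow_mod, ← pow_succ']
      | 1, _ => rw [fl_la_one, one_mul]; simp [proj, par2]
      | l + 2, hx =>
        rw [fl_la_add (by omega), Prod.mk_mul_mk]
        refine Prod.ext ?_ ?_
        · have e : proj ((l + 2) :: w) = l :: proj w := by simp [proj]
          rw [e, ev_cons]
        · have : par2 ((l + 2) :: w) =
              ((w.filter fun x => decide (x < 12) && decide (x ≠ 1)).length + 1) % 2 := by
            simp [par2, hx]
          show tau * tau ^ par2 w = tau ^ par2 ((l + 2) :: w)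
          rw [this, tau_pow_mod, par2, tau_pow_mod, ← pow_succ']
    · rw [fl_of_le _ (len_la ▸ hx), one_mul]
      have e : proj (x :: w) = (x - 2) :: proj w := by simp [proj, show 2 ≤ x by omega]
      have e2 : par2 (x :: w) = par2 w := by simp [par2, show ¬ x < 12 by omega]
      rw [e, e2, ev_cons, fl_of_le _ (by rw [Fi23.len_Lg]; omega), one_mul]

theorem fst_ev (w : List Nat) : (ev la w).1 = ev Fi23.Lg (proj w) := by rw [ev_la]

theorem la_eq_one {w : List Nat} (h1 : ev Fi23.Lg (proj w) = 1) (h2 : par2 w = 0) :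
    ev la w = 1 := by
  rw [ev_la, h1, h2, pow_zero]; rfl

/-- The subgroup generated by all letters but `k`. -/
def HB {Γ : Type*} [Group Γ] (L : List Γ) : Subgroup Γ := genBy L SH

section

variable {Γ : Type*} [Group Γ] {L : List Γ}

theorem ev_reverse' (h2 : ∀ x, fl L x * fl L x = 1) (w : List Nat) :
    ev L w.reverse = (ev L w)⁻¹ := by
  induction w with
  | nil => simp
  | cons l w ih =>
    rw [List.reverse_cons, ev_append, ih]
    simp [mul_inv_rev, inv_eq_of_mul_eq_one_right (h2 l)]

end

/-- The relators of `Hat`, in the letters of `Fi₂₄`, with every letter followed by `l`. -/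
def twisted (w : List Nat) : List Nat := w.flatMap fun x => [x + 2, 0]

/-- The Coxeter relators of the twelve letters and the relator `l = (a b c d e f h)⁹`. -/
def rels0 : List (List Nat) :=
  coxList (α := Fin 12) [(0, 3, 1), (1, 3, 2), (2, 3, 3), (3, 3, 4), (4, 3, 5), (5, 3, 6),
      (5, 3, 10), (6, 3, 7), (7, 3, 8), (8, 3, 9), (10, 3, 11)]
      [0, 1, 2, 3, 4, 5, 6, 7, 8, 9, 10, 11] |>.map (List.map Fin.val) |>.append
    [0 :: (List.replicate 9 [2, 3, 4, 5, 6, 7, 10]).flatten.reverse]

/-- The hypotheses: twelve generators satisfying `rels0`. -/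
structure Frame {Γ : Type*} [Group Γ] (L : List Γ) : Prop where
  len : L.length = 12
  sq : ∀ x, fl L x * fl L x = 1
  rel : ∀ w ∈ rels0, ev L w = 1
  gen : Subgroup.closure {x | x ∈ L} = ⊤

variable {Γ : Type*} [Group Γ] {L : List Γ}

theorem Frame.l_comm (hF : Frame L) {x : Nat} (hx : x < 12) (h1 : x ≠ 1) :
    Commute (fl L 0) (fl L x) := by
  rcases eq_or_ne x 0 with rfl | h0
  · exact Commute.refl _
  have key : ∀ x < 12, x ≠ 1 → x ≠ 0 → [0, x, 0, x] ∈ rels0 := by decide +kernel
  have h := hF.rel _ (key x hx h1 h0)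
  simp only [ev_cons, ev_nil, mul_one] at h
  have := eq_inv_of_mul_eq_one_left ((mul_assoc _ _ _).trans h)
  rw [mul_inv_rev, inv_eq_of_mul_eq_one_right (hF.sq 0), inv_eq_of_mul_eq_one_right (hF.sq x)] at this
  exact this

/-- The generators times `l`. -/
def twist (L : List Γ) : List Γ := (List.range 10).map fun x => fl L (x + 2) * fl L 0

theorem Frame.twist_rels (hF : Frame L) : ∀ w ∈ Fi23.rels, ev (twist L) w = 1 := by
  refine fi23_rels_of_hat ?_ (by simp [twist])
  have hev : ∀ w : List Nat, (∀ x ∈ w, x < 10) →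
      ev (twist L) w = ev L (w.map (· + 2)) * fl L 0 ^ w.length := by
    intro w
    induction w with
    | nil => simp
    | cons x w ih =>
      intro hw
      have hx : x < 10 := hw x (by simp)
      rw [ev_cons, ih (fun y hy => hw y (by simp [hy])), List.map_cons, ev_cons, List.length_cons,
        pow_succ']
      have e : fl (twist L) x = fl L (x + 2) * fl L 0 := by
        simp [twist, fl, List.getD_eq_getElem?_getD, hx]
      rw [e]
      have hc : Commute (fl L 0) (ev L (w.map (· + 2))) := by
        have : ∀ v : List Nat, (∀ y ∈ v, y < 12 ∧ y ≠ 1) → Commute (fl L 0) (ev L v) := by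
          intro v
          induction v with
          | nil => simp
          | cons y v ihv =>
            intro hv
            rw [ev_cons]
            exact (hF.l_comm (hv y (by simp)).1 (hv y (by simp)).2).mul_right
              (ihv fun z hz => hv z (by simp [hz]))
        refine this _ fun y hy => ?_
        obtain ⟨z, hz, rfl⟩ := List.mem_map.mp hy
        have := hw z (by simp [hz])
        omega
      simp only [← mul_assoc]
      rw [mul_assoc (fl L (x + 2)), hc.eq, ← mul_assoc]
  have h : ∀ r ∈ hrels, (∀ x ∈ r, x < 10) ∧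
      ((r.map (· + 2) ∈ rels0 ∧ r.length % 2 = 0) ∨
        (0 :: (r.map (· + 2)).reverse ∈ rels0 ∧ r.length % 2 = 1)) := by decide +kernel
  intro r hr
  obtain ⟨hlt, h | h⟩ := h r hr <;> rw [hev r hlt]
  · rw [hF.rel _ h.1, one_mul, ← Nat.mod_add_div r.length 2, h.2, zero_add, pow_mul, pow_two, hF.sq,
      one_pow]
  · have h1 := hF.rel _ h.1
    rw [ev_cons, ev_reverse' hF.sq, mul_inv_eq_one] at h1
    rw [← h1, ← Nat.mod_add_div r.length 2, h.2, pow_add, pow_one, pow_mul, pow_two, hF.sq, one_pow,
      mul_one]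
    exact hF.sq 0

/-- The map `Fi23 → Γ`. -/
noncomputable def Frame.φ (hF : Frame L) : Cfsg.Spor.Fi23 →* Γ :=
  Fi23.pres.hom Fi23.pres_ok (fun w hw => hF.twist_rels w (Fi23.rels_eq ▸ hw))

theorem Frame.φ_fl (hF : Frame L) {l : Nat} (hl : l < 10) :
    hF.φ (fl Fi23.Lg l) = fl L (l + 2) * fl L 0 := by
  obtain ⟨x, rfl⟩ := Fi23.hix l hl
  refine (Fi23.pres.hom_fl Fi23.pres_ok _ x).trans ?_
  simp [twist, fl, List.getD_eq_getElem?_getD, hl]

theorem Frame.φ_comm (hF : Frame L) (x : Cfsg.Spor.Fi23) : Commute (fl L 0) (hF.φ x) := by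
  have hx : x ∈ Subgroup.closure {y | y ∈ Fi23.Lg} := Fi23.closure_Lg ▸ Subgroup.mem_top x
  induction hx using Subgroup.closure_induction with
  | mem y hy =>
    obtain ⟨l, hl, rfl⟩ := List.getElem_of_mem hy
    rw [← List.getD_eq_getElem Fi23.Lg 1 hl]
    show Commute (fl L 0) (hF.φ (fl Fi23.Lg l))
    have hl' : l < 10 := hl
    rw [hF.φ_fl hl']
    exact (hF.l_comm (by omega) (by omega)).mul_right (Commute.refl _)
  | one => simp
  | mul a b _ _ ha hb => rw [map_mul]; exact ha.mul_right hb
  | inv a _ ha => rw [map_inv]; exact ha.inv_right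

/-- The sign part. -/
noncomputable def Frame.ψ (hF : Frame L) : Multiplicative (ZMod 2) →* Γ :=
  MonoidHom.mk' (fun e => if e = 1 then 1 else fl L 0) (by
    intro a b
    have key : ∀ a b : Multiplicative (ZMod 2),
        (a = 1 → a * b = b) ∧ (b = 1 → a * b = a) ∧ (a ≠ 1 → b ≠ 1 → a * b = 1) := by decide +kernel
    obtain ⟨k1, k2, k3⟩ := key a b
    by_cases ha : a = 1
    · simp [ha]
    · by_cases hb : b = 1
      · simp [hb]
      · simp [ha, hb, k3 ha hb, hF.sq])

/-- The map of `Fi23 × 2` onto the subgroup of all letters but `k`. -/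
noncomputable def Frame.Ψ (hF : Frame L) : A →* Γ :=
  MonoidHom.noncommCoprod hF.φ hF.ψ fun x e => by
    show Commute (hF.φ x) (if e = 1 then 1 else fl L 0)
    split
    · exact Commute.one_right _
    · exact (hF.φ_comm x).symm

theorem Frame.ψ_tau (hF : Frame L) : hF.ψ tau = fl L 0 := by
  show (if tau = 1 then 1 else fl L 0) = fl L 0
  rw [if_neg (by decide +kernel)]

theorem Frame.Ψ_fl (hF : Frame L) {l : Nat} (h1 : l ≠ 1) : hF.Ψ (fl la l) = fl L l := by
  rcases lt_or_ge l 12 with hl | hl
  · match l, hl, h1 with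
    | 0, _, _ =>
      rw [fl_la_zero, Frame.Ψ, MonoidHom.noncommCoprod_apply, map_one, one_mul, hF.ψ_tau]
    | 1, _, h => exact absurd rfl h
    | l + 2, hl, _ =>
      rw [fl_la_add (by omega), Frame.Ψ, MonoidHom.noncommCoprod_apply, hF.φ_fl (by omega),
        hF.ψ_tau, mul_assoc, hF.sq, mul_one]
  · rw [fl_of_le _ (len_la ▸ hl), fl_of_le _ (hF.len ▸ hl), map_one]

theorem Frame.Ψ_ev (hF : Frame L) : ∀ w : List Nat, (∀ x ∈ w, x ≠ 1) →
    hF.Ψ (ev la w) = ev L w := by
  intro w
  induction w with
  | nil => simp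
  | cons x w ih =>
    intro hw
    rw [ev_cons, ev_cons, map_mul, hF.Ψ_fl (hw x (by simp)), ih fun y hy => hw y (by simp [hy])]

theorem closure_la : genBy la SH = ⊤ := by
  rw [eq_top_iff]
  have h1 : ∀ x : Cfsg.Spor.Fi23, ((x, 1) : A) ∈ genBy la SH := by
    intro x
    have hx : x ∈ Subgroup.closure {y | y ∈ Fi23.Lg} := Fi23.closure_Lg ▸ Subgroup.mem_top x
    induction hx using Subgroup.closure_induction with
    | mem y hy =>
      obtain ⟨l, hl, rfl⟩ := List.getElem_of_mem hy
      have hl' : l < 10 := hl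
      have : ev la [l + 2, 0] ∈ genBy la SH := ev_mem_genBy SH fun z hz => by
        rcases List.mem_pair.mp hz with rfl | rfl
        · interval_cases l <;> decide
        · decide
      rw [ev_cons, ev_cons, ev_nil, mul_one, fl_la_add hl', fl_la_zero, Prod.mk_mul_mk, mul_one,
        tau_sq] at this
      rw [← List.getD_eq_getElem Fi23.Lg 1 hl]
      exact this
    | one => exact one_mem _
    | mul a b _ _ ha hb => simpa using mul_mem ha hb
    | inv a _ ha => simpa using inv_mem ha
  rintro ⟨x, e⟩ -
  have h2 : ((1, e) : A) ∈ genBy la SH := by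
    rcases (by decide +kernel : ∀ e : Multiplicative (ZMod 2), e = 1 ∨ e = tau) e with rfl | rfl
    · exact one_mem _
    · simpa [fl_la_zero] using ev_mem_genBy (L := la) SH (w := [0]) (by simp [SH])
  simpa using mul_mem (h1 x) h2

theorem Frame.range_Ψ (hF : Frame L) : hF.Ψ.range = HB L := by
  rw [MonoidHom.range_eq_map, ← closure_la, genBy, MonoidHom.map_closure, HB, genBy]
  congr 1
  ext y
  simp only [lv, Set.mem_image, Set.mem_setOf_eq, List.mem_map]
  constructor
  · rintro ⟨_, ⟨l, hl, rfl⟩, rfl⟩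
    exact ⟨l, hl, (hF.Ψ_fl fun h => by subst h; simp [SH] at hl).symm⟩
  · rintro ⟨l, hl, rfl⟩
    exact ⟨fl la l, ⟨l, hl, rfl⟩, hF.Ψ_fl fun h => by subst h; simp [SH] at hl⟩

theorem Frame.card_HB (hF : Frame L) :
    Finite (HB L) ∧ Nat.card (HB L) ≤ 8178940946586009600 := by
  have := card_A.1
  rw [← hF.range_Ψ]
  exact ⟨Finite.of_surjective _ hF.Ψ.rangeRestrict_surjective,
    (Nat.card_le_card_of_surjective _ hF.Ψ.rangeRestrict_surjective).trans_eq card_A.2⟩

end CfsgLib.Coset.Fi24
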