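/-!
Derived relators used in the first closure step.
-/

set_option autoImplicit false

namespace CfsgLib.Coset.Fi24

/-- Products of transpositions that are trivial in `Fi23`. -/
def derived : List (List Nat) := [[2, 3, 8, 9, 4, 3, 8, 5, 4, 3, 2, 1, 2, 3, 4, 5, 8, 3, 4, 9, 8, 3, 2, 3, 8, 9, 4, 3, 8, 5, 4, 3, 2, 1, 2, 3, 4, 5, 8, 3, 4, 9, 8, 3, 2, 3, 8, 9, 4, 3, 8, 5, 4, 3, 2, 1, 2, 3, 4, 5, 8, 3, 4, 9, 8, 3], [3, 8, 9, 4, 2, 3, 8, 5, 4, 3, 2, 1, 2, 3, 4, 5, 8, 3, 2, 4, 9, 8, 3, 8, 9, 4, 2, 3, 8, 5, 4, 3, 2, 1, 2, 3, 4, 5, 8, 3, 2, 4, 9, 8, 3, 8, 9, 4, 2, 3, 8, 5, 4, 3, 2, 1, 2, 3, 4, 5, 8, 3, 2, 4, 9, 8], [4, 5, 3, 8, 9, 2, 3, 8, 4, 3, 2, 1, 2, 3, 4, 8, 3,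 2, 9, 8, 3, 5, 4, 5, 3, 8, 9, 2, 3, 8, 4, 3, 2, 1, 2, 3, 4, 8, 3, 2, 9, 8, 3, 5, 4, 5, 3, 8, 9, 2, 3, 8, 4, 3, 2, 1, 2, 3, 4, 8, 3, 2, 9, 8, 3, 5], [5, 4, 3, 8, 9, 2, 3, 8, 4, 3, 2, 1, 2, 3, 4, 8, 3, 2, 9, 8, 3, 4, 5, 4, 3, 8, 9, 2, 3, 8, 4, 3, 2, 1, 2, 3, 4, 8, 3, 2, 9, 8, 3, 4, 5, 4, 3, 8, 9, 2, 3, 8, 4, 3, 2, 1, 2, 3, 4, 8, 3, 2, 9, 8, 3, 4], [9, 8, 3, 4, 2, 3, 8, 5, 4, 3, 2, 1, 2, 3, 4, 5, 8, 3, 2, 4, 3, 8, 9, 8, 3, 4, 2, 3, 8, 5, 4, 3, 2, 1, 2, 3, 4, 5, 8, 3, 2, 4, 3, 8, 9, 8, 3, 4, 2, 3, 8, 5, 4, 3, 2, 1, 2, 3, 4, 5, 8, 3, 2, 4, 3, 8], [9, 4, 3, 2, 1, 0, 1, 2, 3, 4, 9, 4, 3, 2, 1, 0, 1, 2, 3, 4], [5, 8, 3, 2, 1, 0, 1, 2, 3, 8, 5, 8, 3, 2, 1, 0, 1, 2,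 3, 8], [9, 5, 4, 3, 2, 1, 2, 3, 4, 5, 9, 5, 4, 3, 2, 1, 2, 3, 4, 5], [5, 9, 8, 3, 2, 1, 2, 3, 8, 9, 5, 9, 8, 3, 2, 1, 2, 3, 8, 9], [0, 8, 5, 4, 3, 2, 3, 4, 5, 8, 0, 8, 5, 4, 3, 2, 3, 4, 5, 8], [0, 9, 8, 4, 3, 2, 3, 4, 8, 9, 0, 9, 8, 4, 3, 2, 3, 4, 8, 9]]

end CfsgLib.Coset.Fi24
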