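import Cfsg.Agent.Coset.Fi24.Loop
import Cfsg.Agent.Coset.Blocks
import Cfsg.Agent.Coset.Fi24.NData
import Mathlib.Tactic.IntervalCases

set_option autoImplicit false
set_option maxRecDepth 100000
set_option Elab.async false

namespace CfsgLib.Coset.Fi24.N

theorem hR : checkRules rels subs R = true := by decide +kernel
theorem hdefs : checkDefs E 9 14 11424 = true := by decide +kernel
theorem hsteps0 : belowBlock 8 275 (chunkAt E id R 9 11424 C) 0 = true := by decide +kernel
theorem hsteps1 : belowBlock 8 275 (chunkAt E id R 9 11424 C) 1 = true := by decide +kernel
theorem hsteps : checkChunks E id R 9 (8 + 1) 11424 275 C = true :=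
  checkChunks_of_blocks (by decide +kernel) fun b hb => by
    have : b < 2 := hb
    interval_cases b
    · exact hsteps0
    · exact hsteps1
theorem hloops : allList (checkLoop E id 9 (11424 + chunk * 275)) loops = true := by decide +kernel

end CfsgLib.Coset.Fi24.N
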