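import Cfsg.Agent.Coset.Fi23.Schur.Main
import Cfsg.Agent.Coset.Fi24.MTable
import Cfsg.Agent.Coset.Fi24.E7Table
import Cfsg.Agent.Coset.Fi24.NSlice
import Cfsg.Agent.Coset.Fi24.HatRels
import Cfsg.Agent.Coset.Fi24.HatOrbData

/-!
The spider relator of `Cfsg.Spor.Fi23` is redundant: the group `Hat` presented by the graph and the
ninth power of the Coxeter element alone maps onto `Fi23` with kernel generated by a central
element of order dividing 3, and `Fi23` has trivial multiplier.
-/

set_option autoImplicit false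
set_option maxRecDepth 100000
set_option Elab.async false

namespace CfsgLib.Coset.Fi24

open Cfsg.Spor in
/-- The presentation without the spider relator. -/
@[reducible] def hpres : PresData Fi23.Gen where
  edges := Fi23.edges
  nodes := [.a, .b, .c, .d, .e, .f, .g, .j, .h, .i]
  extra := [(Fi23.a * Fi23.b * Fi23.c * Fi23.d * Fi23.e * Fi23.f * Fi23.h) ^ 9]
  ix := CfsgLib.Coset.Fi23.ix

theorem hpres_ok : hpres.OK := ⟨by intro x; cases x <;> decide⟩

/-- The group presented without the spider relator. -/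
abbrev Hat : Type := hpres.Gr

/-- Its generators. -/
noncomputable abbrev Lh : List Hat := hpres.gens

theorem len_Lh : Lh.length = 10 := rfl

/-- The relators of `Hat` as numeric words. -/
def hrels : List (List Nat) :=
  Fi23.rels.take 55 ++ [(List.replicate 9 Fi23.coxeter).flatten]

theorem hrels_eq : hpres.rels = hrels := by decide +kernel

theorem hrels_sub : ∀ w ∈ hrels, w ∈ Fi23.rels := by decide +kernel

theorem ev_hrels : ∀ w ∈ hrels, ev Lh w = 1 := hrels_eq ▸ hpres.ev_rels hpres_ok

theorem sq_Lh (x : Nat) : fl Lh x * fl Lh x = 1 := hpres.sq_all hpres_ok Fi23.hix x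

theorem closure_Lh : Subgroup.closure {x | x ∈ Lh} = ⊤ := hpres.closure_gens hpres_ok

/-- The map onto `Fi23`. -/
noncomputable def π : Hat →* Cfsg.Spor.Fi23 :=
  hpres.hom hpres_ok (fun w hw => Fi23.ev_rels w (hrels_sub w (hrels_eq ▸ hw)))

theorem π_fl (l : Nat) : π (fl Lh l) = fl Fi23.Lg l := by
  rcases lt_or_ge l 10 with hl | hl
  · obtain ⟨x, rfl⟩ := Fi23.hix l hl
    exact hpres.hom_fl hpres_ok _ x
  · rw [fl_of_le _ hl, fl_of_le _ hl, map_one]

theorem π_ev (w : List Nat) : π (ev Lh w) = ev Fi23.Lg w := by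
  induction w with
  | nil => simp
  | cons l w ih => rw [ev_cons, ev_cons, map_mul, ih, π_fl]

theorem ev_rev (w : List Nat) : ev Lh w.reverse = (ev Lh w)⁻¹ := by
  induction w with
  | nil => simp
  | cons l w ih =>
    rw [List.reverse_cons, ev_append, ih]
    simp [mul_inv_rev, inv_eq_of_mul_eq_one_right (sq_Lh l)]

theorem matches_π : Matches Lh (Fi23.ρ.comp π) Fi23.Top.Tb := by
  intro l hl i
  have hl' : l < Fi23.Lg.length := by rw [Fi23.len_Lg]; rw [len_Lh] at hl; exact hl
  rw [MonoidHom.comp_apply, π_fl]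
  exact Fi23.matches_ρ l hl' i

/-- The letters of `⟨a, b, c, d, e, f, h, i⟩`. -/
def SM : List Nat := [0, 1, 2, 3, 4, 5, 8, 9]

/-- The letters of the subdiagram of type `E₇`. -/
def SE : List Nat := [0, 1, 2, 3, 4, 5, 8]

/-- The letters of `⟨a, …, i⟩`. -/
def SN : List Nat := [0, 1, 2, 3, 4, 5, 6, 8, 9]

theorem level {S S' : List Nat} {rs subs : List (List Nat)} {E Rep Tb : Nat → Nat}
    {R : Tr (List Nat × Nat)} {d d' N nC n dn dk : Nat} {C Ref : Nat → Nat} (k : Nat)
    (hk : S.length = k)
    (hc : checkLevel hrels 10 S S' rs subs = true)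
    (hR : checkRules rs subs R = true) (hd : checkDefs E k d' N = true)
    (hs : checkChunks E id R k d N nC C = true)
    (ht : checkTable E id (N + chunk * nC) n k dn dk Rep Ref Tb = true) :
    TableOK (lv Lh S) (genBy Lh S') E id n Rep Tb := by
  have hl : (lv Lh S).length = k := by simp [lv, hk]
  exact tableOK_of_check (inv_lv sq_Lh S) hR (hl.symm ▸ hd) (hl.symm ▸ hs) (hl.symm ▸ ht)
    (level_rels len_Lh hc ev_hrels) (level_subs len_Lh hc)

theorem card_E : Finite (genBy Lh SE) ∧ Nat.card (genBy Lh SE) ≤ 1451520 := by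
  have c0 : checkLevel hrels 10 SE [1, 2, 3, 4, 5, 8] E7.lrels E7.subs = true := by decide +kernel
  have c3 : checkLevel hrels 10 [1, 2, 3, 4, 5, 8] [2, 3, 4, 5, 8] Fi23.L3.lrels Fi23.L3.subs =
      true := by decide +kernel
  have c4 : checkLevel hrels 10 [2, 3, 4, 5, 8] [] Fi23.L4.lrels Fi23.L4.subs = true := by
    decide +kernel
  exact level_card (level 7 rfl c0 E7.hR E7.hdefs E7.hsteps E7.htable) (by decide) c0
    (level_card (level 6 rfl c3 Fi23.L3.hR Fi23.L3.hdefs Fi23.L3.hsteps Fi23.L3.htable) (by decide)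
      c3 (level_card (level 5 rfl c4 Fi23.L4.hR Fi23.L4.hdefs Fi23.L4.hsteps Fi23.L4.htable)
        (by decide) c4 card_genBy_nil))

theorem cM : checkLevel hrels 10 SM SE M.lrels M.subs = true := by decide +kernel

theorem M_table : TableOK (lv Lh SM) (genBy Lh SE) M.E id 9477 M.Rep M.Tb :=
  level 8 rfl cM M.hR M.hdefs M.hsteps M.htable

theorem card_M : Finite (genBy Lh SM) ∧ Nat.card (genBy Lh SM) ≤ 3 * 4585351680 := by
  obtain ⟨hf, hc⟩ := level_card M_table (by decide) cM card_E
  exact ⟨hf, hc.trans (by norm_num)⟩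

theorem gens_mem {S : List Nat} {gens : List (List Nat)}
    (h : gens.all (fun w => w.all fun l => S.contains l) = true) :
    ∀ w ∈ gens, ev Lh w ∈ genBy Lh S := by
  simp only [List.all_eq_true, List.contains_iff_mem] at h
  exact fun w hw => ev_mem_genBy S (h w hw)

/-- The action of `Hat` on 31671 points. -/
noncomputable abbrev σ : Hat →* Equiv.Perm (Fin 31671) := Fi23.ρ.comp π

theorem E_lower : 1451520 * Nat.card (genBy Lh SE ⊓ σ.ker : Subgroup Hat) ≤
    Nat.card (genBy Lh SE ⊓ baseStab σ ([] : List (Fin 31671)) : Subgroup Hat) := by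
  have := card_E.1
  have h1 := orbit_step_in matches_π (genBy Lh SE) (base := [(2869 : Fin 31671)]) (β := 34)
    (m := 96) (dm := 7) (gens := Orb.E71G) (P := Orb.E71P) (Inv := Orb.E71Inv)
    (by decide +kernel) (by decide +kernel) (by decide +kernel) (gens_mem (by decide +kernel))
    (card_inf_ker_le (ρ := σ) (genBy Lh SE) [(2869 : Fin 31671), 34])
  have h0 := orbit_step_in matches_π (genBy Lh SE) (base := []) (β := (2869 : Fin 31671))
    (m := 15120) (dm := 14) (gens := Orb.E70G) (P := Orb.E70P) (Inv := Orb.E70Inv)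
    (by decide +kernel) (by decide +kernel) (by decide +kernel) (gens_mem (by decide +kernel)) h1
  simpa [← mul_assoc] using h0

theorem E_eq_one {g : Hat} (hg : g ∈ genBy Lh SE) (h : π g = 1) : g = 1 := by
  have := card_E.1
  exact eq_of_map_eq card_E.2 E_lower hg (one_mem _) (by simp [σ, h])

/-- Local letters of `SM`. -/
def locM (l : Nat) : Nat := if l ≤ 5 then l else l - 2

/-- The word fixes the table's first coset and is trivial in `Fi23`. -/
noncomputable def trivialM (r : List Nat) : Bool :=
  cond (checkLetters 8 [r.map locM])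
    (cond (wordEq ((r.map locM).map fun l => SM.getD l 10) r)
      (cond (Nat.beq (follow (tget M.Tb) 0 (r.map locM)) 0)
        (cond (checkLetters 10 [r])
          (allList (fun b => Nat.beq (follow (tget Fi23.Top.Tb) b r)
            (follow (tget Fi23.Top.Tb) b [])) [0, 1, 224, 1640, 2]) false) false) false) false

theorem M_eq_one {r : List Nat} (h : trivialM r = true) : ev Lh r = 1 := by
  unfold trivialM at h
  simp only [cond_false_eq_true] at h
  obtain ⟨hl, he, hf, hl', hb⟩ := h
  have hm : ev (lv Lh SM) (r.map locM) ∈ genBy Lh SE :=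
    M_table.ev_mem (by decide)
      (fun l hm => by
        have := letters_lt hl (r.map locM) (List.mem_singleton_self _) l hm
        simpa [lv, SM] using this)
      (Nat.eq_of_beq_eq_true hf)
  rw [ev_lv, len_Lh, eq_of_wordEq he] at hm
  refine E_eq_one hm ?_
  rw [π_ev, Fi23.ev_eq hl' (by decide +kernel) hb, ev_nil]

/-- The spider word. -/
def sp : List Nat := powWord (Fi23.spider, 10)

/-- The value of the spider relator. -/
noncomputable def w : Hat := ev Lh sp

theorem π_w : π w = 1 := by
  rw [w, π_ev]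
  exact Fi23.ev_rels _ (by decide +kernel)

theorem w_mem : w ∈ genBy Lh SM := gens_mem (gens := [sp]) (by decide +kernel) _ (by simp)

theorem w_cube : w ^ 3 = 1 := by
  rw [w, pow_ev]
  exact M_eq_one (by decide +kernel)

theorem comm_check : allList (fun x => trivialM (sp ++ [x] ++ sp.reverse ++ [x])) SM = true := by
  decide +kernel

theorem comm_SM {x : Nat} (hx : x ∈ SM) : Commute (fl Lh x) w := by
  have h := M_eq_one (allList_iff.mp comm_check x hx)
  simp only [ev_append, ev_rev, ev_cons, ev_nil, mul_one] at h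
  have h' : w * fl Lh x * w⁻¹ = (fl Lh x)⁻¹ := eq_inv_of_mul_eq_one_left h
  rw [inv_eq_of_mul_eq_one_right (sq_Lh x), mul_inv_eq_iff_eq_mul] at h'
  exact h'.symm

theorem derived_ok : allList trivialM derived = true := by decide +kernel

theorem N_rels : ∀ r ∈ N.rels, ev (lv Lh SN) r = 1 := by
  have h : ∀ r ∈ N.rels, (r.map fun l => SN.getD l 10) ∈ hrels ∨
      (r.map fun l => SN.getD l 10) ∈ derived := by decide +kernel
  intro r hr
  rw [ev_lv, len_Lh]
  rcases h r hr with h | h
  · exact ev_hrels _ h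
  · exact M_eq_one (allList_iff.mp derived_ok _ h)

theorem g_conj_mem : fl Lh 6 * w * fl Lh 6 ∈ genBy Lh SM := by
  have hs : ∀ r ∈ N.subs, ev (lv Lh SN) r ∈ genBy Lh SM := by
    have h : ∀ r ∈ N.subs, ∀ l ∈ r.map (fun l => SN.getD l 10), l ∈ SM := by decide +kernel
    intro r hr
    rw [ev_lv, len_Lh]
    exact ev_mem_genBy SM (h r hr)
  obtain ⟨q, hq, he⟩ : ∃ q ∈ N.loops, (q.1.map fun l => SN.getD l 10) = [6] ++ sp ++ [6] := by
    decide +kernel
  have := ev_mem_of_loops (L := lv Lh SN) (inv_lv sq_Lh SN) N.hR N.hdefs N.hsteps N.hloops N_rels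
    hs q hq
  rw [ev_lv, len_Lh, he] at this
  simpa [ev_append, w, mul_assoc] using this

theorem M_lower : 4585351680 * Nat.card (genBy Lh SM ⊓ σ.ker : Subgroup Hat) ≤
    Nat.card (genBy Lh SM ⊓ baseStab σ ([] : List (Fin 31671)) : Subgroup Hat) := by
  have := card_M.1
  have h2 := orbit_step_in matches_π (genBy Lh SM) (base := [(224 : Fin 31671), 1640]) (β := 2)
    (m := 27) (dm := 5) (gens := Orb.M2G) (P := Orb.M2P) (Inv := Orb.M2Inv)
    (by decide +kernel) (by decide +kernel) (by decide +kernel) (gens_mem (by decide +kernel))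
    (card_inf_ker_le (ρ := σ) (genBy Lh SM) [(224 : Fin 31671), 1640, 2])
  have h1 := orbit_step_in matches_π (genBy Lh SM) (base := [(224 : Fin 31671)]) (β := 1640)
    (m := 7776) (dm := 13) (gens := Orb.M1G) (P := Orb.M1P) (Inv := Orb.M1Inv)
    (by decide +kernel) (by decide +kernel) (by decide +kernel) (gens_mem (by decide +kernel)) h2
  have h0 := orbit_step_in matches_π (genBy Lh SM) (base := []) (β := (224 : Fin 31671))
    (m := 21840) (dm := 15) (gens := Orb.M0G) (P := Orb.M0P) (Inv := Orb.M0Inv)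
    (by decide +kernel) (by decide +kernel) (by decide +kernel) (gens_mem (by decide +kernel)) h1
  simpa [← mul_assoc] using h0

theorem card_K : Finite (genBy Lh SM ⊓ π.ker : Subgroup Hat) ∧
    Nat.card (genBy Lh SM ⊓ π.ker : Subgroup Hat) ≤ 3 := by
  have := card_M.1
  have hf : Finite (genBy Lh SM ⊓ π.ker : Subgroup Hat) :=
    Finite.of_injective _ (Subgroup.inclusion_injective inf_le_left)
  refine ⟨hf, ?_⟩
  have h := M_lower
  have e : baseStab σ ([] : List (Fin 31671)) = ⊤ := rfl
  rw [e, inf_top_eq] at h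
  have hle : Nat.card (genBy Lh SM ⊓ π.ker : Subgroup Hat) ≤
      Nat.card (genBy Lh SM ⊓ σ.ker : Subgroup Hat) := by
    have : Finite (genBy Lh SM ⊓ σ.ker : Subgroup Hat) :=
      Finite.of_injective _ (Subgroup.inclusion_injective inf_le_left)
    refine Nat.le_of_dvd Nat.card_pos (Subgroup.card_dvd_of_le (inf_le_inf_left _ fun g hg => ?_))
    rw [MonoidHom.mem_ker] at hg ⊢
    simp [σ, hg]
  have := card_M.2
  omega

theorem w_central : w ∈ Subgroup.center Hat := by
  rcases eq_or_ne w 1 with h1 | h1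
  · rw [h1]; exact one_mem _
  have := card_K.1
  set K : Subgroup Hat := genBy Lh SM ⊓ π.ker
  have hwK : w ∈ K := ⟨w_mem, π_w⟩
  have ho : orderOf w = 3 :=
    haveI : Fact (Nat.Prime 3) := ⟨Nat.prime_three⟩
    orderOf_eq_prime w_cube h1
  have hZ : Subgroup.zpowers w = K := by
    refine Subgroup.eq_of_le_of_card_ge (Subgroup.zpowers_le.mpr hwK) ?_
    rw [Nat.card_zpowers, ho]
    exact card_K.2
  set g := fl Lh 6
  set f := fl Lh 5
  have gg : g * g = 1 := sq_Lh 6
  have ff : f * f = 1 := sq_Lh 5
  have hv : g * w * g ∈ Subgroup.zpowers w := by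
    rw [hZ]
    refine ⟨g_conj_mem, ?_⟩
    show π (g * w * g) = 1
    rw [map_mul, map_mul, π_w, mul_one, ← map_mul, gg, map_one]
  have hfw : Commute f w := comm_SM (by decide)
  have hgw : Commute g w := by
    have hfin : IsOfFinOrder w := isOfFinOrder_iff_pow_eq_one.mpr ⟨3, by norm_num, w_cube⟩
    obtain ⟨n, hn⟩ := (hfin.mem_powers_iff_mem_zpowers).mpr hv
    have hn : w ^ n = g * w * g := hn
    have hn' : g * w * g = w ^ (n % 3) := by
      rw [← hn]
      conv_lhs => rw [← Nat.mod_add_div n 3, pow_add, pow_mul, w_cube, one_pow, mul_one]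
    have h3 : n % 3 = 0 ∨ n % 3 = 1 ∨ n % 3 = 2 := by omega
    rcases h3 with h | h | h <;> rw [h] at hn'
    · refine absurd ?_ h1
      calc w = g * (g * w * g) * g := by simp only [← mul_assoc, gg, one_mul]; simp [mul_assoc, gg]
        _ = 1 := by rw [hn', pow_zero, mul_one, gg]
    · rw [pow_one] at hn'
      calc g * w = g * w * g * g := by simp [mul_assoc, gg]
        _ = w * g := by rw [hn']
    · -- then the braid of `f` and `g` inverts and centralises `w`
      have hb : g * f * g = f * g * f := by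
        have h := ev_hrels [5, 6, 5, 6, 5, 6] (by decide +kernel)
        simp only [ev_cons, ev_nil, mul_one, ← mul_assoc] at h
        change f * g * f * g * f * g = 1 at h
        calc g * f * g = (f * g * f)⁻¹ * (f * g * f * g * f * g) := by group
          _ = f * g * f := by
            rw [h, mul_one, mul_inv_rev, mul_inv_rev, inv_eq_of_mul_eq_one_right ff,
              inv_eq_of_mul_eq_one_right gg, mul_assoc]
      have hinv : g * w * g = w⁻¹ := by
        rw [hn']; exact eq_inv_of_mul_eq_one_left (by rw [← pow_succ, w_cube])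
      have hinv' : g * w⁻¹ * g = w := by
        have := congrArg (·⁻¹) hinv
        simpa [mul_inv_rev, inv_eq_of_mul_eq_one_right gg, mul_assoc] using this
      have hfi : f * w⁻¹ * f = w⁻¹ := by
        rw [(hfw.inv_right).eq, mul_assoc, ff, mul_one]
      have hf' : f * w * f = w := by rw [hfw.eq, mul_assoc, ff, mul_one]
      have e1 : g * f * g * w * (g * f * g) = w := by
        calc g * f * g * w * (g * f * g) = g * (f * (g * w * g) * f) * g := by group
          _ = w := by rw [hinv, hfi, hinv']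
      have e2 : f * g * f * w * (f * g * f) = w⁻¹ := by
        calc f * g * f * w * (f * g * f) = f * (g * (f * w * f) * g) * f := by group
          _ = w⁻¹ := by rw [hf', hinv, hfi]
      rw [hb, e2] at e1
      refine absurd ?_ h1
      calc w = w ^ 3 * (w * w)⁻¹ := by group
        _ = (w * w)⁻¹ := by rw [w_cube, one_mul]
        _ = 1 := by
          rw [inv_eq_one]; nth_rw 1 [← e1]
          exact inv_mul_cancel w
  rw [Subgroup.mem_center_iff]
  have key : Subgroup.closure {x | x ∈ Lh} ≤ Subgroup.centralizer {w} := by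
    rw [Subgroup.closure_le]
    intro x hx
    obtain ⟨l, hl, rfl⟩ := List.getElem_of_mem hx
    rw [SetLike.mem_coe, Subgroup.mem_centralizer_singleton_iff, ← List.getD_eq_getElem Lh 1 hl]
    change fl Lh l * w = w * fl Lh l
    have hl' : l < 10 := hl
    rcases (by interval_cases l <;> simp [SM] : l ∈ SM ∨ l = 6 ∨ l = 7) with h | h | h
    · exact comm_SM h
    · subst h; exact hgw
    · subst h
      -- the letter `j` commutes with every letter of `SM`
      have : genBy Lh SM ≤ Subgroup.centralizer {fl Lh 7} := by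
        rw [genBy, Subgroup.closure_le]
        intro y hy
        obtain ⟨m, hm, rfl⟩ := List.mem_map.mp hy
        rw [SetLike.mem_coe, Subgroup.mem_centralizer_singleton_iff]
        have h1 : ∀ m ∈ SM, [m, 7, m, 7] ∈ hrels ∨ [7, m, 7, m] ∈ hrels := by decide +kernel
        rcases h1 m hm with h | h <;> have h := ev_hrels _ h <;>
          simp only [ev_cons, ev_nil, mul_one] at h
        · have := eq_inv_of_mul_eq_one_left ((mul_assoc _ _ _).trans h)
          rw [mul_inv_rev, inv_eq_of_mul_eq_one_right (sq_Lh m),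
            inv_eq_of_mul_eq_one_right (sq_Lh 7)] at this
          exact this
        · have := eq_inv_of_mul_eq_one_left ((mul_assoc _ _ _).trans h)
          rw [mul_inv_rev, inv_eq_of_mul_eq_one_right (sq_Lh m),
            inv_eq_of_mul_eq_one_right (sq_Lh 7)] at this
          exact this.symm
      exact (Subgroup.mem_centralizer_singleton_iff.mp (this w_mem)).symm
  intro g
  exact Subgroup.mem_centralizer_singleton_iff.mp (key (closure_Lh ▸ Subgroup.mem_top g))

theorem ker_π : π.ker ≤ Subgroup.zpowers w := by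
  set Z := Subgroup.zpowers w
  have hZ : Z ≤ Subgroup.center Hat := Subgroup.zpowers_le.mpr w_central
  haveI : Z.Normal := ⟨fun n hn g => by
    rw [Subgroup.mem_center_iff.mp (hZ hn) g, mul_inv_cancel_right]; exact hn⟩
  set X : List (Hat ⧸ Z) := Lh.map (QuotientGroup.mk' Z)
  have hX : ∀ v : List Nat, ev X v = QuotientGroup.mk' Z (ev Lh v) := by
    intro v
    induction v with
    | nil => simp
    | cons l v ih =>
      rw [ev_cons, ev_cons, map_mul, ih]
      congr 1
      show List.getD (Lh.map (QuotientGroup.mk' Z)) l 1 = QuotientGroup.mk' Z (Lh.getD l 1)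
      rw [← map_one (QuotientGroup.mk' Z), List.getD_map]
  have hr : ∀ r ∈ Fi23.pres.rels, ev X r = 1 := by
    rw [Fi23.rels_eq]
    intro r hr
    have : r ∈ hrels ∨ r = sp := (by decide +kernel : ∀ r ∈ Fi23.rels, r ∈ hrels ∨ r = sp) r hr
    rw [hX]
    rcases this with h | rfl
    · rw [ev_hrels r h, map_one]
    · exact (QuotientGroup.eq_one_iff _).mpr (Subgroup.mem_zpowers w)
  have hs : (Fi23.pres.hom Fi23.pres_ok hr).comp π = QuotientGroup.mk' Z := by
    refine MonoidHom.eq_of_eqOn_dense closure_Lh ?_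
    intro x hx
    obtain ⟨l, hl, rfl⟩ := List.getElem_of_mem hx
    rw [MonoidHom.comp_apply, ← List.getD_eq_getElem Lh 1 hl]
    obtain ⟨y, hy⟩ := Fi23.hix l hl
    subst hy
    show Fi23.pres.hom Fi23.pres_ok hr (π (fl Lh (Fi23.ix y))) = _
    rw [π_fl, Fi23.pres.hom_fl Fi23.pres_ok hr y]
    have := hX [Fi23.ix y]
    simp only [ev_cons, ev_nil, mul_one] at this
    exact this
  intro x hx
  have := congrArg (fun φ : Hat →* Hat ⧸ Z => φ x) hs
  simp only [MonoidHom.comp_apply, MonoidHom.mem_ker.mp hx, map_one] at this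
  exact (QuotientGroup.eq_one_iff x).mp this.symm

set_option maxHeartbeats 1000000 in
theorem w_eq_one : w = 1 := by
  by_contra h1
  have hfw : IsOfFinOrder w := isOfFinOrder_iff_pow_eq_one.mpr ⟨3, by norm_num, w_cube⟩
  have hker : π.ker = Subgroup.zpowers w :=
    le_antisymm ker_π (Subgroup.zpowers_le.mpr π_w)
  have ho : orderOf w = 3 :=
    haveI : Fact (Nat.Prime 3) := ⟨Nat.prime_three⟩
    orderOf_eq_prime w_cube h1
  have hsurj : Function.Surjective π := by
    rw [← MonoidHom.range_eq_top, MonoidHom.range_eq_map, ← closure_Lh, MonoidHom.map_closure,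
      ← Fi23.closure_Lg]
    congr 1
    ext y
    constructor
    · rintro ⟨x, hx, rfl⟩
      obtain ⟨l, hl, rfl⟩ := List.getElem_of_mem hx
      rw [← List.getD_eq_getElem Lh 1 hl]
      show π (fl Lh l) ∈ Fi23.Lg
      rw [π_fl, fl, List.getD_eq_getElem Fi23.Lg 1 (by rw [Fi23.len_Lg]; rwa [len_Lh] at hl)]
      exact List.getElem_mem _
    · intro hy
      obtain ⟨l, hl, rfl⟩ := List.getElem_of_mem hy
      refine ⟨fl Lh l, ?_, ?_⟩
      · show fl Lh l ∈ Lh
        rw [fl, List.getD_eq_getElem Lh 1 (by rw [len_Lh]; rwa [Fi23.len_Lg] at hl)]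
        exact List.getElem_mem _
      · rw [π_fl, fl, List.getD_eq_getElem _ _ hl]
  haveI := Fi23.card_le.1
  have hc : Nat.card π.ker = 3 := by rw [hker, Nat.card_zpowers, ho]
  haveI : Finite π.ker := Nat.finite_of_card_ne_zero (by omega)
  haveI : Finite Hat := Nat.finite_of_card_ne_zero (by
    rw [← π.ker.card_mul_index, Subgroup.index_ker, MonoidHom.range_eq_top.mpr hsurj,
      Subgroup.card_top, hc]
    exact mul_ne_zero (by norm_num) Nat.card_pos.ne')
  have hperf : commutator Hat = ⊤ := by
    rw [← Abelianization.ker_of, MonoidHom.ker_eq_top_iff]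
    set A : Hat →* Abelianization Hat := Abelianization.of
    have hbraid : ∀ x y : Nat, [x, y, x, y, x, y] ∈ hrels → A (fl Lh x) = A (fl Lh y) := by
      intro x y h
      have h := congrArg A (ev_hrels _ h)
      simp only [ev_cons, ev_nil, mul_one, map_mul, map_one] at h
      have hx : A (fl Lh x) * A (fl Lh x) = 1 := by rw [← map_mul, sq_Lh, map_one]
      have hy : A (fl Lh y) * A (fl Lh y) = 1 := by rw [← map_mul, sq_Lh, map_one]
      refine (mul_eq_one_iff_eq_inv.mp ?_).trans (inv_eq_of_mul_eq_one_right hy)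
      have h2 : (A (fl Lh x) * A (fl Lh y)) ^ 2 = 1 := by
        rw [mul_pow, pow_two, pow_two, hx, hy, one_mul]
      have h3 : (A (fl Lh x) * A (fl Lh y)) ^ 3 = 1 := by
        rw [← h]; simp only [pow_succ, pow_zero, one_mul, mul_assoc]
      rwa [pow_succ, h2, one_mul] at h3
    have e0 := hbraid 0 1 (by decide +kernel); have e1 := hbraid 1 2 (by decide +kernel)
    have e2 := hbraid 2 3 (by decide +kernel); have e3 := hbraid 3 4 (by decide +kernel)
    have e4 := hbraid 4 5 (by decide +kernel); have e5 := hbraid 5 6 (by decide +kernel)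
    have e6 := hbraid 6 7 (by decide +kernel); have e8 := hbraid 3 8 (by decide +kernel)
    have e9 := hbraid 8 9 (by decide +kernel)
    have hd : A (fl Lh 3) = 1 := by
      have h := congrArg A (ev_hrels _ (List.mem_append_right _ (List.mem_singleton_self _)))
      rw [← pow_ev] at h
      simp only [Fi23.coxeter, ev_cons, ev_nil, mul_one, map_mul, map_pow, map_one] at h
      rw [e0, e1, e2, ← e8, ← e4, ← e3] at h
      have h2 : A (fl Lh 3) * A (fl Lh 3) = 1 := by rw [← map_mul, sq_Lh, map_one]
      rw [show A (fl Lh 3) * (A (fl Lh 3) * (A (fl Lh 3) * (A (fl Lh 3) * (A (fl Lh 3) *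
        (A (fl Lh 3) * A (fl Lh 3)))))) = A (fl Lh 3) from by simp only [← mul_assoc, h2, one_mul, mul_one]] at h
      calc A (fl Lh 3) = A (fl Lh 3) ^ 9 := by
            rw [show (9 : Nat) = 2 * 4 + 1 from rfl, pow_succ, pow_mul, pow_two, h2, one_pow, one_mul]
        _ = 1 := h
    refine MonoidHom.eq_of_eqOn_dense closure_Lh ?_
    intro x hx
    obtain ⟨l, hl, rfl⟩ := List.getElem_of_mem hx
    rw [← List.getD_eq_getElem Lh 1 hl]
    show A (fl Lh l) = 1
    have hl' : l < 10 := hl
    interval_cases l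
    · rw [e0, e1, e2, hd]
    · rw [e1, e2, hd]
    · rw [e2, hd]
    · exact hd
    · rw [← e3, hd]
    · rw [← e4, ← e3, hd]
    · rw [← e5, ← e4, ← e3, hd]
    · rw [← e6, ← e5, ← e4, ← e3, hd]
    · rw [← e8, hd]
    · rw [← e9, ← e8, hd]
  refine Fi23.Schur.noStem 3 Nat.prime_three Hat π ⟨hsurj, ?_, ?_⟩ hc
  · exact ker_π.trans (Subgroup.zpowers_le.mpr w_central)
  · rw [hperf]; exact le_top

/-- Elements satisfying the relators of `Hat` satisfy those of `Fi23`. -/
theorem fi23_rels_of_hat {X : Type*} [Group X] {L : List X}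
    (h : ∀ r ∈ hrels, ev L r = 1) (hL : L.length = 10) : ∀ r ∈ Fi23.rels, ev L r = 1 := by
  intro r hr
  have hr' : ∀ r ∈ hpres.rels, ev L r = 1 := hrels_eq ▸ h
  have hev : ∀ v : List Nat, hpres.hom hpres_ok hr' (ev Lh v) = ev L v := by
    intro v
    induction v with
    | nil => simp
    | cons l v ih =>
      rw [ev_cons, ev_cons, map_mul, ih]
      congr 1
      rcases lt_or_ge l 10 with hl | hl
      · obtain ⟨x, rfl⟩ := Fi23.hix l hl
        exact hpres.hom_fl hpres_ok hr' x
      · rw [fl_of_le _ hl, fl_of_le _ (hL ▸ hl), map_one]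
  rcases (by decide +kernel : ∀ r ∈ Fi23.rels, r ∈ hrels ∨ r = sp) r hr with hh | rfl
  · exact h r hh
  · rw [← hev]
    show hpres.hom hpres_ok hr' w = 1
    rw [w_eq_one, map_one]

end CfsgLib.Coset.Fi24
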