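/-!
Three cosets of `⟨b, …, i⟩` closed under the generators of its extension by `q`.
-/

set_option autoImplicit false

namespace CfsgLib.Coset.Fi24.KClose

/-- The coset representatives. -/
def reps : List (List Nat) := [[], [2, 3, 4, 5, 6, 7, 8, 9, 10, 5, 4, 3, 6, 5, 7, 11, 10, 5, 4, 3, 2, 6, 5, 4, 3, 7, 6, 8, 7, 10, 5, 4, 6, 5, 10, 11, 10, 5, 6, 4, 5, 10, 7, 8, 6, 7, 3, 4, 5, 6, 2, 3, 4, 5, 10, 11, 7, 5, 6, 3, 4, 5, 10, 9, 8, 7, 6, 5, 4, 3, 2], [2, 3, 4, 5, 6, 7, 8, 9, 10, 5, 4, 3, 6, 5, 7, 11, 10, 5, 4, 3, 2, 6, 5, 4, 3, 7, 6, 8, 7, 10, 5, 4, 6, 5, 10, 11, 10, 5, 6, 4, 5, 10, 7, 8, 6, 7, 3, 4, 5, 6, 2, 3, 4, 5, 10, 11,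 7, 5, 6, 3, 4, 5, 10, 9, 8, 7, 6, 5, 4, 3, 2, 3]]

/-- For each representative and generator: the next representative and a word. -/
def certs : List (List (Nat × List Nat)) := [[(0, ([0] : List Nat)), (0, ([1] : List Nat)), (0, ([2] : List Nat)), (0, ([3] : List Nat)), (0, ([4] : List Nat)), (0, ([5] : List Nat)), (0, ([6] : List Nat)), (0, ([7] : List Nat)), (0, ([8] : List Nat)), (1, ([] : List Nat))],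
  [(2, ([] : List Nat)), (2, ([5, 6, 1, 2, 7, 8, 3, 2, 7, 4, 3, 2, 1, 2, 3, 4, 7, 2, 3, 8, 7, 2, 1, 5, 4, 3, 2, 7, 8, 1, 2, 7, 3, 4, 2, 3, 1, 2, 7, 5, 4, 3, 2, 1, 3, 2, 7, 8, 4, 3, 2, 7, 5, 4, 3, 2, 8, 7, 5, 4, 3, 5, 4, 5, 8, 4, 5, 6, 1, 2, 7, 8, 3, 2, 7, 4, 3, 2, 1, 2, 3, 4, 7, 2, 3, 8, 7, 2, 1, 5, 4, 3, 2, 7, 8, 1, 2, 7, 3, 4, 2, 3, 1, 2, 7, 5, 4, 3, 2, 1, 3, 2, 7, 8, 4, 3, 2, 7, 5, 4, 3, 2, 8, 7, 5, 4, 3, 5, 4, 5, 8, 3, 4, 5, 6, 2, 3, 4, 7, 2, 8, 1, 2, 3, 7, 2, 1, 0, 1, 2, 3, 7, 1, 2, 7, 8, 3, 2, 7, 4, 3, 2, 1, 2, 3, 4, 7, 2, 3, 8, 7, 2, 1, 0, 1, 2, 5, 4, 3, 6, 5, 4, 1, 2, 7, 8, 3, 2, 7, 4, 3, 2, 1, 2, 3, 4, 7, 2, 3,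 8, 7, 2, 1, 5, 4, 3, 2, 7, 8, 1, 2, 7, 3, 4, 2, 3, 1, 2, 7, 5, 4, 3, 2, 1, 3, 2, 7, 8, 4, 3, 2, 7, 5, 4, 3, 2, 8, 7, 5, 4, 3, 5, 4, 5, 8, 6, 5, 1, 2, 7, 8, 3, 2, 7, 4, 3, 2, 1, 2, 3, 4, 7, 2, 3, 8, 7, 2, 1] : List Nat)), (2, ([8, 6, 4, 5, 3, 4, 5, 6, 7, 8, 2, 3, 4, 5, 6, 7, 2, 3, 4, 5, 8, 7, 2, 3, 4, 1, 2, 7, 8, 3, 2, 7, 4, 3, 2, 1, 2, 3, 4, 7, 2, 3, 8, 7, 2, 1, 5, 4, 3, 2, 7, 8, 1, 2, 7, 3, 4, 2, 3, 1, 2, 7, 5, 4, 3, 2, 1, 3, 2, 7, 8, 4, 3, 2, 7, 5, 4, 3, 2, 8, 7, 5, 4, 3, 5, 4, 5, 8, 1, 2, 3, 1, 2, 7, 8, 3, 2, 7, 4, 3, 2, 1, 2, 3, 4, 7, 2, 3, 8, 7, 2, 1, 5, 4, 6, 5, 1, 2, 7, 8, 3, 2, 7, 4, 3, 2, 1, 2, 3, 4, 7, 2, 3, 8,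 7, 2, 1, 5, 4, 3, 2, 7, 8, 1, 2, 7, 3, 4, 2, 3, 1, 2, 7, 5, 4, 3, 2, 1, 3, 2, 7, 8, 4, 3, 2, 7, 5, 4, 3, 2, 8, 7, 5, 4, 3, 5, 4, 5, 8, 6, 0, 1, 2, 7, 8, 3, 2, 7, 4, 3, 2, 1, 2, 3, 4, 7, 2, 3, 8, 7, 2, 1, 5, 4, 3, 6, 5, 1, 2, 7, 8, 3, 2, 7, 4, 3, 2, 1, 2, 3, 4, 7, 2, 3, 8, 7, 2, 1, 0, 1] : List Nat)), (2, ([6, 5, 6, 4, 5, 6, 3, 4, 5, 6, 7, 8, 2, 3, 4, 5, 6, 7, 2, 3, 4, 5, 8, 7, 1, 2, 3, 1, 2, 7, 8, 3, 2, 7, 4, 3, 2, 1, 2, 3, 4, 7, 2, 3, 8, 7, 2, 1, 5, 4, 6, 5, 1, 2, 7, 8, 3, 2, 7, 4, 3, 2, 1, 2, 3, 4, 7, 2, 3, 8, 7, 2, 1, 5, 4, 3, 2, 7, 8, 1, 2, 7, 3, 4, 2, 3, 1, 2, 7, 5, 4, 3, 2, 1, 3, 2, 7, 8, 4, 3, 2, 7, 5, 4, 3, 2, 8,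 7, 5, 4, 3, 5, 4, 5, 8, 6, 0, 1, 2, 7, 8, 3, 2, 7, 4, 3, 2, 1, 2, 3, 4, 7, 2, 3, 8, 7, 2, 1, 5, 4, 6, 5, 1, 2, 7, 8, 3, 2, 7, 4, 3, 2, 1, 2, 3, 4, 7, 2, 3, 8, 7, 2, 1, 0, 1, 2] : List Nat)), (2, ([6, 1, 2, 7, 8, 3, 2, 7, 4, 3, 2, 1, 2, 3, 4, 7, 2, 3, 8, 7, 2, 1, 5, 4, 3, 2, 7, 8, 1, 2, 7, 3, 4, 2, 3, 1, 2, 7, 5, 4, 3, 2, 1, 3, 2, 7, 8, 4, 3, 2, 7, 5, 4, 3, 2, 8, 7, 5, 4, 3, 5, 4, 5, 8, 5, 6, 4, 5, 3, 4, 7, 2, 3, 4, 5, 6, 7, 2, 3, 4, 5, 8, 7, 2, 3, 4, 1, 2, 7, 8, 3, 2, 7, 4, 3, 2, 1, 2, 3, 4, 7, 2, 3, 8, 7, 2, 1, 5, 4, 3, 2, 7, 8, 1, 2, 7, 3, 4, 2, 3, 1, 2, 7, 5, 4, 3, 2, 1, 3, 2, 7, 8, 4, 3, 2, 7, 5, 4, 3, 2, 8, 7, 5, 4,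 3, 5, 4, 5, 8, 6, 5, 1, 2, 7, 8, 3, 2, 7, 4, 3, 2, 1, 2, 3, 4, 7, 2, 3, 8, 7, 3, 5, 0, 1, 2, 7, 8, 1, 2, 7, 8, 3, 2, 7, 4, 3, 2, 1, 2, 3, 4, 7, 2, 3, 8, 7, 2, 0, 1, 2, 7, 8, 3, 2, 7, 4, 3, 2, 1, 2, 3, 4, 7, 2, 3, 8, 7, 2, 1, 5] : List Nat)), (2, ([1, 2, 7, 8, 3, 2, 7, 4, 3, 2, 1, 2, 3, 4, 7, 2, 3, 8, 7, 2, 1, 5, 4, 3, 2, 7, 8, 1, 2, 7, 3, 4, 2, 3, 1, 2, 7, 5, 4, 3, 2, 1, 3, 2, 7, 8, 4, 3, 2, 7, 5, 4, 3, 2, 8, 7, 5, 4, 3, 5, 4, 5, 6, 3, 4, 5, 7, 8, 2, 3, 4, 5, 6, 7, 2, 1, 2, 7, 8, 3, 2, 7, 4, 3, 2, 1, 2, 3, 4, 7, 2, 3, 8, 7, 3, 4, 5, 4, 6, 5, 1, 2, 7, 8, 3, 2, 7, 4, 3, 2, 1, 2, 3, 4, 7, 2, 3, 8, 7, 2, 1, 5, 4, 3, 2, 7, 8,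 1, 2, 7, 3, 4, 2, 3, 1, 2, 7, 5, 4, 3, 2, 1, 3, 2, 7, 8, 4, 3, 2, 7, 5, 4, 3, 2, 8, 7, 5, 4, 3, 5, 4, 5, 8, 0, 1, 2, 7, 8, 3, 2, 7, 4, 3, 2, 1, 2, 3, 4, 7, 2, 3, 8, 7, 2, 1, 5, 4, 3, 2, 1, 0, 6, 1, 2, 7, 8, 3, 2, 7, 4, 3, 2, 1, 2, 3, 4, 7, 2, 3, 8, 7, 2] : List Nat)), (2, ([5, 6, 1, 2, 7, 8, 3, 2, 7, 4, 3, 2, 1, 2, 3, 4, 7, 2, 3, 8, 7, 2, 1, 5, 4, 3, 2, 7, 8, 1, 2, 7, 3, 4, 2, 3, 1, 2, 7, 5, 4, 3, 2, 1, 3, 2, 7, 8, 4, 3, 2, 7, 5, 4, 3, 2, 8, 7, 5, 4, 3, 5, 4, 5, 8, 3, 2, 3, 4, 7, 2, 3, 8, 7, 2, 1, 2, 7, 8, 3, 2, 7, 4, 3, 2, 1, 2, 3, 4, 7, 2, 3, 8, 7, 3, 4, 5, 4, 6, 5, 1, 2, 7, 8, 3, 2, 7, 4, 3, 2, 1, 2, 3, 4, 7, 2, 3, 8,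 7, 2, 1, 5, 4, 3, 2, 7, 8, 1, 2, 7, 3, 4, 2, 3, 1, 2, 7, 5, 4, 3, 2, 1, 3, 2, 7, 8, 4, 3, 2, 7, 5, 4, 3, 2, 8, 7, 5, 4, 3, 5, 4, 5, 8, 0, 1, 2, 7, 8, 3, 2, 7, 4, 3, 2, 1, 2, 3, 4, 7, 2, 3, 8, 7, 2, 1, 5, 4, 3, 2, 1, 0, 1, 2, 7, 8, 3, 2, 7, 4, 3, 2, 1, 2, 3, 4, 7, 2, 3, 8, 7, 2, 5] : List Nat)), (2, ([1, 2, 7, 8, 3, 2, 7, 4, 3, 2, 1, 2, 3, 4, 7, 2, 3, 8, 7, 2, 1, 5, 4, 3, 2, 7, 8, 1, 2, 7, 3, 4, 2, 3, 1, 2, 7, 5, 4, 3, 2, 1, 3, 2, 7, 8, 4, 3, 2, 7, 5, 4, 3, 2, 8, 7, 5, 4, 3, 5, 4, 5, 6, 5, 6, 1, 2, 7, 8, 3, 2, 7, 4, 3, 2, 1, 2, 3, 4, 7, 2, 3, 8, 7, 2, 1, 5, 4, 3, 2, 7, 8, 1, 2, 7, 3, 4, 2, 3, 1, 2, 7, 5, 4, 3, 2, 1, 3, 2,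 7, 8, 4, 3, 2, 7, 5, 4, 3, 2, 8, 7, 5, 4, 3, 5, 4, 5, 8, 4, 5, 6, 7, 8, 2, 3, 4, 5, 7, 2, 3, 4, 8, 7, 2, 3, 1, 2, 7, 1, 2, 7, 8, 3, 2, 7, 4, 3, 2, 1, 2, 3, 4, 7, 2, 3, 8, 7, 2, 1, 5, 4, 3, 0, 1, 2, 7, 8, 3, 2, 7, 4, 3, 2, 1, 2, 3, 4, 7, 2, 3, 8, 7, 2, 5, 1, 2, 7, 8, 3, 2, 7, 4, 3, 2, 1, 2, 3, 4, 7, 2, 3, 8, 7, 2, 1, 0, 1, 2, 3, 7] : List Nat)), (2, ([5, 6, 4, 5, 6, 1, 2, 7, 8, 3, 2, 7, 4, 3, 2, 1, 2, 3, 4, 7, 2, 3, 8, 7, 2, 1, 5, 4, 3, 2, 7, 8, 1, 2, 7, 3, 4, 2, 3, 1, 2, 7, 5, 4, 3, 2, 1, 3, 2, 7, 8, 4, 3, 2, 7, 5, 4, 3, 2, 8, 7, 5, 4, 3, 5, 4, 5, 8, 3, 4, 5, 6, 1, 2, 7, 8, 3, 2, 7, 4, 3, 2, 1, 2, 3, 4, 7, 2, 3, 8, 7, 2,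 1, 5, 4, 3, 2, 7, 8, 1, 2, 7, 3, 4, 2, 3, 1, 2, 7, 5, 4, 3, 2, 1, 3, 2, 7, 8, 4, 3, 2, 7, 5, 4, 3, 2, 8, 7, 5, 4, 3, 5, 4, 5, 8, 2, 3, 4, 5, 7, 2, 3, 4, 8, 7, 2, 1, 2, 7, 8, 0, 1, 2, 3, 7, 2, 1, 0, 1, 2, 7, 8, 3, 2, 7, 4, 3, 2, 1, 2, 3, 4, 7, 2, 3, 8, 7, 2, 1, 5, 6, 1, 2, 7, 8, 3, 2, 7, 4, 3, 2, 1, 2, 3, 4, 7, 2, 3, 8, 7, 2, 1, 5, 4, 3, 2, 7, 8, 1, 2, 7, 3, 4, 2, 3, 1, 2, 7, 5, 4, 3, 2, 1, 3, 2, 7, 8, 4, 3, 2, 7, 5, 4, 3, 2, 8, 7, 5, 4, 3, 5, 4, 5, 8] : List Nat)), (0, ([] : List Nat))],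
  [(1, ([] : List Nat)), (1, ([1, 2, 7, 8, 3, 2, 7, 4, 3, 2, 1, 2, 3, 4, 7, 2, 3, 8, 7, 2, 1, 5, 4, 3, 2, 7, 8, 1, 2, 7, 3, 4, 2, 3, 1, 2, 7, 5, 4, 3, 2, 1, 3, 2, 7, 8, 4, 3, 2, 7, 5, 4, 3, 2, 8, 7, 5, 4, 3, 5, 4, 5, 6, 1, 2, 7, 8, 3, 2, 7, 4, 3, 2, 1, 2, 3, 4, 7, 2, 3, 8, 7, 2, 1, 5, 4, 3, 2, 7, 8, 1, 2, 7, 3, 4, 2, 3, 1, 2, 7, 5, 4, 3, 2, 1, 3, 2, 7, 8, 4, 3, 2, 7, 5, 4, 3, 2, 8, 7, 5, 4, 3, 5, 4, 5, 8, 5, 6, 4, 5, 3, 4, 5, 6, 2, 3, 4, 5, 6, 7, 1, 2, 7, 8, 3, 2, 7, 4, 3, 2, 1, 2, 3, 4, 7, 2, 3, 8, 7, 2, 1, 5, 4, 6, 5, 1, 2, 7, 8, 3, 2, 7, 4, 3, 2, 1, 2, 3, 4, 7, 2, 3, 8, 7, 2, 1, 0, 1, 2, 3, 7, 1, 2, 7, 8, 3, 2, 7, 4,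 3, 2, 1, 2, 3, 4, 7, 2, 3, 8, 7, 2, 1, 5, 4, 6, 5, 1, 2, 7, 8, 3, 2, 7, 4, 3, 2, 1, 2, 3, 4, 7, 2, 3, 8, 7, 2, 1, 0, 1, 2, 3, 4, 5, 1, 2, 7, 8, 3, 2, 7, 4, 3, 2, 1, 2, 3, 4, 7, 2, 3, 8, 7, 2, 1] : List Nat)), (1, ([8, 6, 4, 5, 3, 4, 5, 6, 7, 8, 2, 3, 4, 5, 6, 7, 2, 3, 4, 5, 8, 7, 2, 3, 4, 1, 2, 7, 8, 3, 2, 7, 4, 3, 2, 1, 2, 3, 4, 7, 2, 3, 8, 7, 2, 1, 5, 4, 3, 2, 7, 8, 1, 2, 7, 3, 4, 2, 3, 1, 2, 7, 5, 4, 3, 2, 1, 3, 2, 7, 8, 4, 3, 2, 7, 5, 4, 3, 2, 8, 7, 5, 4, 3, 5, 4, 5, 8, 1, 2, 3, 1, 2, 7, 8, 3, 2, 7, 4, 3, 2, 1, 2, 3, 4, 7, 2, 3, 8, 7, 2, 1, 5, 4, 6, 5, 1, 2, 7, 8, 3, 2, 7, 4, 3, 2, 1, 2, 3, 4, 7, 2, 3, 8, 7, 2, 1, 5,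 4, 3, 2, 7, 8, 1, 2, 7, 3, 4, 2, 3, 1, 2, 7, 5, 4, 3, 2, 1, 3, 2, 7, 8, 4, 3, 2, 7, 5, 4, 3, 2, 8, 7, 5, 4, 3, 5, 4, 5, 8, 6, 0, 1, 2, 7, 8, 3, 2, 7, 4, 3, 2, 1, 2, 3, 4, 7, 2, 3, 8, 7, 2, 1, 5, 4, 3, 6, 5, 1, 2, 7, 8, 3, 2, 7, 4, 3, 2, 1, 2, 3, 4, 7, 2, 3, 8, 7, 2, 1, 0, 1] : List Nat)), (1, ([6, 5, 6, 4, 5, 6, 3, 4, 5, 6, 7, 8, 2, 3, 4, 5, 6, 7, 2, 3, 4, 5, 8, 7, 1, 2, 3, 1, 2, 7, 8, 3, 2, 7, 4, 3, 2, 1, 2, 3, 4, 7, 2, 3, 8, 7, 2, 1, 5, 4, 6, 5, 1, 2, 7, 8, 3, 2, 7, 4, 3, 2, 1, 2, 3, 4, 7, 2, 3, 8, 7, 2, 1, 5, 4, 3, 2, 7, 8, 1, 2, 7, 3, 4, 2, 3, 1, 2, 7, 5, 4, 3, 2, 1, 3, 2, 7, 8, 4, 3, 2, 7, 5, 4, 3, 2, 8, 7, 5, 4, 3,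 5, 4, 5, 8, 6, 0, 1, 2, 7, 8, 3, 2, 7, 4, 3, 2, 1, 2, 3, 4, 7, 2, 3, 8, 7, 2, 1, 5, 4, 6, 5, 1, 2, 7, 8, 3, 2, 7, 4, 3, 2, 1, 2, 3, 4, 7, 2, 3, 8, 7, 2, 1, 0, 1, 2] : List Nat)), (1, ([6, 1, 2, 7, 8, 3, 2, 7, 4, 3, 2, 1, 2, 3, 4, 7, 2, 3, 8, 7, 2, 1, 5, 4, 3, 2, 7, 8, 1, 2, 7, 3, 4, 2, 3, 1, 2, 7, 5, 4, 3, 2, 1, 3, 2, 7, 8, 4, 3, 2, 7, 5, 4, 3, 2, 8, 7, 5, 4, 3, 5, 4, 5, 8, 5, 6, 4, 5, 3, 4, 7, 2, 3, 4, 5, 6, 7, 2, 3, 4, 5, 8, 7, 2, 3, 4, 1, 2, 7, 8, 3, 2, 7, 4, 3, 2, 1, 2, 3, 4, 7, 2, 3, 8, 7, 2, 1, 5, 4, 3, 2, 7, 8, 1, 2, 7, 3, 4, 2, 3, 1, 2, 7, 5, 4, 3, 2, 1, 3, 2, 7, 8, 4, 3, 2, 7, 5, 4, 3, 2, 8, 7, 5, 4, 3, 5, 4, 5,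 8, 6, 5, 1, 2, 7, 8, 3, 2, 7, 4, 3, 2, 1, 2, 3, 4, 7, 2, 3, 8, 7, 3, 5, 0, 1, 2, 7, 8, 1, 2, 7, 8, 3, 2, 7, 4, 3, 2, 1, 2, 3, 4, 7, 2, 3, 8, 7, 2, 0, 1, 2, 7, 8, 3, 2, 7, 4, 3, 2, 1, 2, 3, 4, 7, 2, 3, 8, 7, 2, 1, 5] : List Nat)), (1, ([1, 2, 7, 8, 3, 2, 7, 4, 3, 2, 1, 2, 3, 4, 7, 2, 3, 8, 7, 2, 1, 5, 4, 3, 2, 7, 8, 1, 2, 7, 3, 4, 2, 3, 1, 2, 7, 5, 4, 3, 2, 1, 3, 2, 7, 8, 4, 3, 2, 7, 5, 4, 3, 2, 8, 7, 5, 4, 3, 5, 4, 5, 6, 3, 4, 5, 7, 8, 2, 3, 4, 5, 6, 7, 2, 1, 2, 7, 8, 3, 2, 7, 4, 3, 2, 1, 2, 3, 4, 7, 2, 3, 8, 7, 3, 4, 5, 4, 6, 5, 1, 2, 7, 8, 3, 2, 7, 4, 3, 2, 1, 2, 3, 4, 7, 2, 3, 8, 7, 2, 1, 5, 4, 3, 2, 7, 8, 1, 2, 7, 3,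 4, 2, 3, 1, 2, 7, 5, 4, 3, 2, 1, 3, 2, 7, 8, 4, 3, 2, 7, 5, 4, 3, 2, 8, 7, 5, 4, 3, 5, 4, 5, 8, 0, 1, 2, 7, 8, 3, 2, 7, 4, 3, 2, 1, 2, 3, 4, 7, 2, 3, 8, 7, 2, 1, 5, 4, 3, 2, 1, 0, 6, 1, 2, 7, 8, 3, 2, 7, 4, 3, 2, 1, 2, 3, 4, 7, 2, 3, 8, 7, 2] : List Nat)), (1, ([5, 6, 1, 2, 7, 8, 3, 2, 7, 4, 3, 2, 1, 2, 3, 4, 7, 2, 3, 8, 7, 2, 1, 5, 4, 3, 2, 7, 8, 1, 2, 7, 3, 4, 2, 3, 1, 2, 7, 5, 4, 3, 2, 1, 3, 2, 7, 8, 4, 3, 2, 7, 5, 4, 3, 2, 8, 7, 5, 4, 3, 5, 4, 5, 8, 3, 2, 3, 4, 7, 2, 3, 8, 7, 2, 1, 2, 7, 8, 3, 2, 7, 4, 3, 2, 1, 2, 3, 4, 7, 2, 3, 8, 7, 3, 4, 5, 4, 6, 5, 1, 2, 7, 8, 3, 2, 7, 4, 3, 2, 1, 2, 3, 4, 7, 2, 3, 8, 7, 2, 1, 5,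 4, 3, 2, 7, 8, 1, 2, 7, 3, 4, 2, 3, 1, 2, 7, 5, 4, 3, 2, 1, 3, 2, 7, 8, 4, 3, 2, 7, 5, 4, 3, 2, 8, 7, 5, 4, 3, 5, 4, 5, 8, 0, 1, 2, 7, 8, 3, 2, 7, 4, 3, 2, 1, 2, 3, 4, 7, 2, 3, 8, 7, 2, 1, 5, 4, 3, 2, 1, 0, 1, 2, 7, 8, 3, 2, 7, 4, 3, 2, 1, 2, 3, 4, 7, 2, 3, 8, 7, 2, 5] : List Nat)), (1, ([1, 2, 7, 8, 3, 2, 7, 4, 3, 2, 1, 2, 3, 4, 7, 2, 3, 8, 7, 2, 1, 5, 4, 3, 2, 7, 8, 1, 2, 7, 3, 4, 2, 3, 1, 2, 7, 5, 4, 3, 2, 1, 3, 2, 7, 8, 4, 3, 2, 7, 5, 4, 3, 2, 8, 7, 5, 4, 3, 5, 4, 5, 6, 5, 6, 1, 2, 7, 8, 3, 2, 7, 4, 3, 2, 1, 2, 3, 4, 7, 2, 3, 8, 7, 2, 1, 5, 4, 3, 2, 7, 8, 1, 2, 7, 3, 4, 2, 3, 1, 2, 7, 5, 4, 3, 2, 1, 3, 2, 7, 8, 4, 3,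 2, 7, 5, 4, 3, 2, 8, 7, 5, 4, 3, 5, 4, 5, 8, 4, 5, 6, 7, 8, 2, 3, 4, 5, 7, 2, 3, 4, 8, 7, 2, 3, 1, 2, 7, 1, 2, 7, 8, 3, 2, 7, 4, 3, 2, 1, 2, 3, 4, 7, 2, 3, 8, 7, 2, 1, 5, 4, 3, 0, 1, 2, 7, 8, 3, 2, 7, 4, 3, 2, 1, 2, 3, 4, 7, 2, 3, 8, 7, 2, 5, 1, 2, 7, 8, 3, 2, 7, 4, 3, 2, 1, 2, 3, 4, 7, 2, 3, 8, 7, 2, 1, 0, 1, 2, 3, 7] : List Nat)), (1, ([5, 6, 4, 5, 6, 1, 2, 7, 8, 3, 2, 7, 4, 3, 2, 1, 2, 3, 4, 7, 2, 3, 8, 7, 2, 1, 5, 4, 3, 2, 7, 8, 1, 2, 7, 3, 4, 2, 3, 1, 2, 7, 5, 4, 3, 2, 1, 3, 2, 7, 8, 4, 3, 2, 7, 5, 4, 3, 2, 8, 7, 5, 4, 3, 5, 4, 5, 8, 3, 4, 5, 6, 1, 2, 7, 8, 3, 2, 7, 4, 3, 2, 1, 2, 3, 4, 7, 2, 3, 8, 7, 2, 1, 5, 4, 3,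 2, 7, 8, 1, 2, 7, 3, 4, 2, 3, 1, 2, 7, 5, 4, 3, 2, 1, 3, 2, 7, 8, 4, 3, 2, 7, 5, 4, 3, 2, 8, 7, 5, 4, 3, 5, 4, 5, 8, 2, 3, 4, 5, 7, 2, 3, 4, 8, 7, 2, 1, 2, 7, 8, 0, 1, 2, 3, 7, 2, 1, 0, 1, 2, 7, 8, 3, 2, 7, 4, 3, 2, 1, 2, 3, 4, 7, 2, 3, 8, 7, 2, 1, 5, 6, 1, 2, 7, 8, 3, 2, 7, 4, 3, 2, 1, 2, 3, 4, 7, 2, 3, 8, 7, 2, 1, 5, 4, 3, 2, 7, 8, 1, 2, 7, 3, 4, 2, 3, 1, 2, 7, 5, 4, 3, 2, 1, 3, 2, 7, 8, 4, 3, 2, 7, 5, 4, 3, 2, 8, 7, 5, 4, 3, 5, 4, 5, 8] : List Nat)), (2, ([0] : List Nat))]]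

end CfsgLib.Coset.Fi24.KClose
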