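import Cfsg.Agent.Coset.Fi24.Cases
import Cfsg.Agent.Coset.Fi24.Chains
import Cfsg.Agent.Coset.Fi24.CTTable
import Cfsg.Agent.Coset.Fi24.KCloseData

/-!
The subgroup `K2 = ⟨b, …, i, q⟩` of `Fi23 × 2` has index 275264 and meets the second factor
trivially.
-/

set_option autoImplicit false
set_option maxRecDepth 100000
set_option Elab.async false

namespace CfsgLib.Coset.Fi24

section Kernel

/-- The word is trivial in `A`. -/
noncomputable def oneA (w : List Nat) : Bool :=
  cond (checkLetters 10 [proj w])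
    (cond (allList (fun b => Nat.beq (follow (tget Fi23.Top.Tb) b (proj w)) b) [0, 1, 224, 1640, 2])
      (Nat.beq (par2 w) 0) false) false

end Kernel

theorem eq_one_of_oneA {w : List Nat} (h : oneA w = true) : ev la w = 1 := by
  unfold oneA at h
  simp only [cond_false_eq_true] at h
  refine la_eq_one ?_ (Nat.eq_of_beq_eq_true h.2.2)
  rw [Fi23.ev_eq (v := proj w) (w := []) h.1 (by decide +kernel) h.2.1, ev_nil]

/-- The group `⟨b, …, i, q⟩` in `Fi23 × 2`. -/
noncomputable def K2 : Subgroup A := genW la gK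

/-- The even relators of `Fi23` and two more, in the letters of `Fi₂₄`. -/
def evenRels : List (List Nat) := ((Fi23.rels.take 56) ++ CT.extras).map (List.map (· + 2))

theorem evenRels_ok : allList oneA evenRels = true := by decide +kernel

theorem level_la {S S' : List Nat} {rs subs : List (List Nat)} {E Rep Tb : Nat → Nat}
    {R : Tr (List Nat × Nat)} {d d' N nC n dn dk : Nat} {C Ref : Nat → Nat} (k : Nat)
    (hk : S.length = k)
    (hc : checkLevel evenRels 12 S S' rs subs = true)
    (hR : checkRules rs subs R = true) (hd : checkDefs E k d' N = true)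
    (hs : checkChunks E id R k d N nC C = true)
    (ht : checkTable E id (N + chunk * nC) n k dn dk Rep Ref Tb = true) :
    TableOK (lv la S) (genBy la S') E id n Rep Tb := by
  have hl : (lv la S).length = k := by simp [lv, hk]
  exact tableOK_of_check (inv_lv sq_la S) hR (hl.symm ▸ hd) (hl.symm ▸ hs) (hl.symm ▸ ht)
    (level_rels len_la hc fun w hw => eq_one_of_oneA (allList_iff.mp evenRels_ok w hw))
    (level_subs len_la hc)

theorem card_C_upper : Finite (genW la gC) ∧ Nat.card (genW la gC) ≤ 9904359628800 := by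
  have h : genW la gC = genBy la [3, 4, 5, 6, 7, 8, 9, 10, 11] := by
    rw [← genW_singletons [3, 4, 5, 6, 7, 8, 9, 10, 11]]
    rfl
  rw [h]
  have c0 : checkLevel evenRels 12 [3, 4, 5, 6, 7, 8, 9, 10, 11] [3, 4, 5, 6, 7, 8, 10, 11]
      CT.lrels CT.subs = true := by decide +kernel
  have c1 : checkLevel evenRels 12 [3, 4, 5, 6, 7, 8, 10, 11] [3, 4, 5, 6, 7, 8, 10]
      Fi23.L1.lrels Fi23.L1.subs = true := by decide +kernel
  have c2 : checkLevel evenRels 12 [3, 4, 5, 6, 7, 8, 10] [3, 4, 5, 6, 7, 10]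
      Fi23.L2.lrels Fi23.L2.subs = true := by decide +kernel
  have c3 : checkLevel evenRels 12 [3, 4, 5, 6, 7, 10] [4, 5, 6, 7, 10]
      Fi23.L3.lrels Fi23.L3.subs = true := by decide +kernel
  have c4 : checkLevel evenRels 12 [4, 5, 6, 7, 10] [] Fi23.L4.lrels Fi23.L4.subs = true := by
    decide +kernel
  obtain ⟨hf, hc⟩ := level_card (level_la 9 rfl c0 CT.hR CT.hdefs CT.hsteps CT.htable) (by decide) c0
    (level_card (level_la 8 rfl c1 Fi23.L1.hR Fi23.L1.hdefs Fi23.L1.hsteps Fi23.L1.htable)
      (by decide) c1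
      (level_card (level_la 7 rfl c2 Fi23.L2.hR Fi23.L2.hdefs Fi23.L2.hsteps Fi23.L2.htable)
        (by decide) c2
        (level_card (level_la 6 rfl c3 Fi23.L3.hR Fi23.L3.hdefs Fi23.L3.hsteps Fi23.L3.htable)
          (by decide) c3
          (level_card (level_la 5 rfl c4 Fi23.L4.hR Fi23.L4.hdefs Fi23.L4.hsteps Fi23.L4.htable)
            (by decide) c4 card_genBy_nil))))
  exact ⟨hf, hc.trans (by norm_num)⟩

theorem ev_reverse_la (w : List Nat) : ev la w.reverse = (ev la w)⁻¹ := ev_reverse' sq_la w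

/-- The certified move of a coset. -/
noncomputable def closeAt (i g : Nat) : Bool :=
  cond (Nat.ble (Nat.add ((KClose.certs.getD i []).getD g (0, [])).1 1) 3)
    (oneA (KClose.reps.getD i [] ++ gK.getD g [] ++
      (expW gC ((KClose.certs.getD i []).getD g (0, [])).2 ++
        KClose.reps.getD ((KClose.certs.getD i []).getD g (0, [])).1 []).reverse)) false

theorem close_ok : allBelow 2 3 (fun i => allBelow 4 10 (closeAt i)) = true := by decide +kernel

theorem card_K_upper : Finite K2 ∧ Nat.card K2 ≤ 29713078886400 := by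
  classical
  obtain ⟨hf, hc⟩ := card_C_upper
  haveI := card_A.1
  set C := genW la gC
  let f : C × Fin 3 → A := fun p => (p.1 : A) * ev la (KClose.reps.getD p.2 [])
  have hgen : ∀ x ∈ Set.range f, ∀ g < 10, x * ev la (gK.getD g []) ∈ Set.range f := by
    rintro _ ⟨⟨c, i⟩, rfl⟩ g hg
    have h := of_allBelow (of_allBelow close_ok i i.2) g hg
    unfold closeAt at h
    rw [cond_false_eq_true] at h
    have h1 := eq_one_of_oneA h.2
    rw [ev_append, ev_append, ev_reverse_la, mul_inv_eq_one, ev_append] at h1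
    refine ⟨(⟨(c : A) * ev la (expW gC ((KClose.certs.getD i []).getD g (0, [])).2),
      mul_mem c.2 (ev_expW_mem la gC _)⟩, ⟨_, Nat.ble_eq.mp h.1⟩), ?_⟩
    show (c : A) * _ * _ = (c : A) * _ * _
    rw [mul_assoc, mul_assoc, h1]
  have hfin : (Set.range f).Finite := Set.finite_range f
  have hinv : ∀ g < 10, ∀ x ∈ Set.range f, x * (ev la (gK.getD g []))⁻¹ ∈ Set.range f := by
    intro g hg x hx
    have him : (fun y => y * ev la (gK.getD g [])) '' Set.range f = Set.range f :=
      Set.eq_of_subset_of_ncard_le (by rintro _ ⟨y, hy, rfl⟩; exact hgen y hy g hg)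
        (by rw [Set.ncard_image_of_injective _ (mul_left_injective _)]) hfin
    rw [← him] at hx
    obtain ⟨y, hy, rfl⟩ := hx
    simpa using hy
  have hsub : (K2 : Set A) ⊆ Set.range f := by
    intro x hx
    change x ∈ K2 at hx
    rw [K2, genW] at hx
    induction hx using Subgroup.closure_induction_right with
    | one => exact ⟨(1, 0), by simp [f, KClose.reps]⟩
    | mul_right x hx y hy ih =>
      obtain ⟨w, hw, rfl⟩ := hy
      obtain ⟨g, hg, rfl⟩ := List.getElem_of_mem hw
      have := hgen x ih g (by simpa [gK] using hg)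
      rwa [List.getD_eq_getElem _ _ hg] at this
    | mul_inv_cancel x hx y hy ih =>
      obtain ⟨w, hw, rfl⟩ := hy
      obtain ⟨g, hg, rfl⟩ := List.getElem_of_mem hw
      have := hinv g (by simpa [gK] using hg) x ih
      rwa [List.getD_eq_getElem _ _ hg] at this
  refine ⟨inferInstance, ?_⟩
  calc Nat.card K2 = (K2 : Set A).ncard := (Nat.card_coe_set_eq _)
    _ ≤ (Set.range f).ncard := Set.ncard_le_ncard hsub hfin
    _ ≤ Nat.card (C × Fin 3) := Finite.card_range_le f
    _ ≤ 29713078886400 := by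
      rw [Nat.card_prod, Nat.card_fin]
      omega

theorem card_K2 : Nat.card K2 = 29713078886400 ∧
    Nat.card (K2.map (MonoidHom.fst Cfsg.Spor.Fi23 (Multiplicative (ZMod 2)))) = Nat.card K2 := by
  haveI := card_A.1
  have h1 : 29713078886400 ≤
      Nat.card (K2.map (MonoidHom.fst Cfsg.Spor.Fi23 (Multiplicative (ZMod 2)))) := by
    rw [K2, map_fst_genW]; exact card_K_lower
  have h2 : Nat.card (K2.map (MonoidHom.fst Cfsg.Spor.Fi23 (Multiplicative (ZMod 2)))) ≤ Nat.card K2 :=
    Nat.card_le_card_of_surjective _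
      ((MonoidHom.fst Cfsg.Spor.Fi23 (Multiplicative (ZMod 2))).subgroupMap_surjective _)
  have h3 := card_K_upper.2
  omega

theorem K2_index : K2.index = 275264 := by
  have h := Subgroup.card_mul_index K2
  rw [card_K2.1, card_A.2] at h
  omega

theorem fst_injOn_K2 {a b : A} (ha : a ∈ K2) (hb : b ∈ K2) (h : a.1 = b.1) : a = b := by
  haveI := card_A.1
  have hbij := (Nat.bijective_iff_surjective_and_card
    ((MonoidHom.fst Cfsg.Spor.Fi23 (Multiplicative (ZMod 2))).subgroupMap K2)).mpr
    ⟨MonoidHom.subgroupMap_surjective _ _, card_K2.2.symm⟩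
  exact congrArg Subtype.val (hbij.1 (a₁ := ⟨a, ha⟩) (a₂ := ⟨b, hb⟩) (Subtype.ext h))

theorem tau_not_mem : ((1, tau) : A) ∉ K2 := fun h => by
  have := congrArg Prod.snd (fst_injOn_K2 h (one_mem K2) rfl)
  exact absurd this (by decide +kernel)

end CfsgLib.Coset.Fi24
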