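import Cfsg.Agent.Coset.Fi24.KappaDefs

/-! Certificates for the permutation of `k`. -/

set_option autoImplicit false
set_option maxRecDepth 100000
set_option Elab.async false

namespace CfsgLib.Coset.Fi24

theorem ka_ok : allBelow 3 8 (fun i => allList (kaAt i) (MD.ka.getD i [])) = true := by
  decide +kernel

end CfsgLib.Coset.Fi24
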