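import Cfsg.Agent.Coset.Fi24.KappaDefs
import Cfsg.Agent.Coset.Blocks
import Mathlib.Tactic.IntervalCases

/-! Certificates for the permutation of `k`. -/

set_option autoImplicit false
set_option maxRecDepth 100000
set_option Elab.async false

namespace CfsgLib.Coset.Fi24

theorem forest0_0 : belowBlock 13 31671 (forestAt Fi23.Top.Tb MD.S0W MD.roots0 MD.F0 MD.mask 31671) 0 = true := by decide +kernel
theorem forest0_1 : belowBlock 13 31671 (forestAt Fi23.Top.Tb MD.S0W MD.roots0 MD.F0 MD.mask 31671) 1 = true := by decide +kernel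
theorem forest0_2 : belowBlock 13 31671 (forestAt Fi23.Top.Tb MD.S0W MD.roots0 MD.F0 MD.mask 31671) 2 = true := by decide +kernel
theorem forest0_3 : belowBlock 13 31671 (forestAt Fi23.Top.Tb MD.S0W MD.roots0 MD.F0 MD.mask 31671) 3 = true := by decide +kernel
theorem forest0 : allBelow (13 + 2) 31671 (forestAt Fi23.Top.Tb MD.S0W MD.roots0 MD.F0 MD.mask 31671) = true :=
  allBelow_of_blocks (by decide +kernel) fun b hb => by
    have : b < 4 := hb
    interval_cases b
    · exact forest0_0
    · exact forest0_1
    · exact forest0_2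
    · exact forest0_3

end CfsgLib.Coset.Fi24
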