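import Cfsg.Agent.Coset.Fi24.KappaDefs
import Cfsg.Agent.Coset.Blocks
import Mathlib.Tactic.IntervalCases

/-! Certificates for the permutation of `k`. -/

set_option autoImplicit false
set_option maxRecDepth 100000
set_option Elab.async false

namespace CfsgLib.Coset.Fi24

theorem forest1_0 : belowBlock 13 31671 (forestAt Fi23.Top.Tb MD.S1W MD.roots1 MD.F1 MD.mask 31671) 0 = true := by decide +kernel
theorem forest1_1 : belowBlock 13 31671 (forestAt Fi23.Top.Tb MD.S1W MD.roots1 MD.F1 MD.mask 31671) 1 = true := by decide +kernel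
theorem forest1_2 : belowBlock 13 31671 (forestAt Fi23.Top.Tb MD.S1W MD.roots1 MD.F1 MD.mask 31671) 2 = true := by decide +kernel
theorem forest1_3 : belowBlock 13 31671 (forestAt Fi23.Top.Tb MD.S1W MD.roots1 MD.F1 MD.mask 31671) 3 = true := by decide +kernel
theorem forest1 : allBelow (13 + 2) 31671 (forestAt Fi23.Top.Tb MD.S1W MD.roots1 MD.F1 MD.mask 31671) = true :=
  allBelow_of_blocks (by decide +kernel) fun b hb => by
    have : b < 4 := hb
    interval_cases b
    · exact forest1_0
    · exact forest1_1
    · exact forest1_2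
    · exact forest1_3

theorem forest3_0 : belowBlock 13 31671 (forestAt Fi23.Top.Tb MD.S3W MD.roots3 MD.F3 MD.mask 31671) 0 = true := by decide +kernel
theorem forest3_1 : belowBlock 13 31671 (forestAt Fi23.Top.Tb MD.S3W MD.roots3 MD.F3 MD.mask 31671) 1 = true := by decide +kernel
theorem forest3_2 : belowBlock 13 31671 (forestAt Fi23.Top.Tb MD.S3W MD.roots3 MD.F3 MD.mask 31671) 2 = true := by decide +kernel
theorem forest3_3 : belowBlock 13 31671 (forestAt Fi23.Top.Tb MD.S3W MD.roots3 MD.F3 MD.mask 31671) 3 = true := by decide +kernel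
theorem forest3 : allBelow (13 + 2) 31671 (forestAt Fi23.Top.Tb MD.S3W MD.roots3 MD.F3 MD.mask 31671) = true :=
  allBelow_of_blocks (by decide +kernel) fun b hb => by
    have : b < 4 := hb
    interval_cases b
    · exact forest3_0
    · exact forest3_1
    · exact forest3_2
    · exact forest3_3

end CfsgLib.Coset.Fi24
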