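import Cfsg.Agent.Coset.Fi24.Loop
import Cfsg.Agent.Coset.Blocks
import Cfsg.Agent.Coset.Fi24.TopData
import Mathlib.Tactic.IntervalCases

set_option autoImplicit false
set_option maxRecDepth 100000
set_option Elab.async false

namespace CfsgLib.Coset.Fi24.Top

theorem hR : checkRules rels subs R = true := by decide +kernel
theorem hdefs : checkDefs E 12 13 5721 = true := by decide +kernel
theorem hsteps : checkChunks E id R 12 8 5721 130 C = true := by decide +kernel
theorem hloops : allList (checkLoop E id 12 (5721 + chunk * 130)) loops = true := by decide +kernel

end CfsgLib.Coset.Fi24.Top
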