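import Cfsg.Agent.Coset.Fi24.Cases
import Cfsg.Agent.Coset.Fi24.Chains
import Cfsg.Agent.Coset.Fi24.TopSlice
import Cfsg.Agent.Coset.Fi24.Top0Slice
import Cfsg.Prelude.Def_Spor_Fi24

/-!
The presented group `Cfsg.Spor.Fi24` has order at most that of `Fi₂₄`, and without the long
relator at most three times that.
-/

set_option autoImplicit false
set_option maxRecDepth 100000
set_option Elab.async false

namespace CfsgLib.Coset.Fi24

/-- Generator numbering. -/
def ix : Cfsg.Spor.Fi24.Gen → Nat
  | .l => 0
  | .k => 1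
  | .a => 2
  | .b => 3
  | .c => 4
  | .d => 5
  | .e => 6
  | .f => 7
  | .g => 8
  | .j => 9
  | .h => 10
  | .i => 11

/-- The presentation data of `Cfsg.Spor.Fi24`. -/
@[reducible] def pres : PresData Cfsg.Spor.Fi24.Gen where
  edges := Cfsg.Spor.Fi24.edges
  nodes := [.l, .k, .a, .b, .c, .d, .e, .f, .g, .j, .h, .i]
  extra := Cfsg.Spor.Fi24.extra
  ix := ix

/-- The presentation without the long relator. -/
@[reducible] def pres0 : PresData Cfsg.Spor.Fi24.Gen where
  edges := Cfsg.Spor.Fi24.edges
  nodes := [.l, .k, .a, .b, .c, .d, .e, .f, .g, .j, .h, .i]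
  extra := Cfsg.Spor.Fi24.extra.take 1
  ix := ix

theorem pres_ok : pres.OK := ⟨by intro x; cases x <;> decide⟩

theorem pres0_ok : pres0.OK := ⟨by intro x; cases x <;> decide⟩

/-- The generators of `Fi24`. -/
noncomputable abbrev Lg : List Cfsg.Spor.Fi24 := pres.gens

/-- `Fi₂₄` without the long relator (the triple cover). -/
abbrev G0 : Type := pres0.Gr

/-- Its generators. -/
noncomputable abbrev Lg0 : List G0 := pres0.gens

theorem hix : ∀ l < 12, ∃ x, ix x = l := by
  intro l hl
  interval_cases l
  exacts [⟨.l, rfl⟩, ⟨.k, rfl⟩, ⟨.a, rfl⟩, ⟨.b, rfl⟩, ⟨.c, rfl⟩, ⟨.d, rfl⟩, ⟨.e, rfl⟩, ⟨.f, rfl⟩,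
    ⟨.g, rfl⟩, ⟨.j, rfl⟩, ⟨.h, rfl⟩, ⟨.i, rfl⟩]

/-- The word of the long relator. -/
def zword : List Nat := (List.replicate 17 [5, 4, 3, 2, 1, 0, 5, 6, 7, 8, 9, 5, 10, 11]).flatten

theorem rels0_eq : pres0.rels = rels0 := by decide +kernel

theorem rels_eq : pres.rels = rels0 ++ [zword] := by decide +kernel

theorem frame : Frame Lg where
  len := rfl
  sq := pres.sq_all pres_ok hix
  rel := fun w hw => pres.ev_rels pres_ok w (rels_eq ▸ List.mem_append_left _ hw)
  gen := pres.closure_gens pres_ok

theorem frame0 : Frame Lg0 where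
  len := rfl
  sq := pres0.sq_all pres0_ok hix
  rel := fun w hw => pres0.ev_rels pres0_ok w (rels0_eq ▸ hw)
  gen := pres0.closure_gens pres0_ok

/-- The spider relator in the letters of `Fi₂₄`. -/
def spider : List Nat := (powWord (Fi23.spider, 10)).map (· + 2)

theorem la_spider : ev la spider = 1 := by
  refine la_eq_one ?_ (by decide +kernel)
  exact Fi23.ev_rels _ (by decide +kernel)

variable {Γ : Type*} [Group Γ] {L : List Γ}

theorem Frame.spider_eq (hF : Frame L) : ev L spider = 1 := by
  rw [← hF.Ψ_ev spider (by decide +kernel), la_spider, map_one]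

theorem Frame.loops_mem (hF : Frame L) {rels subs : List (List Nat)} {extra : List (List Nat)}
    (hex : ∀ w ∈ extra, ev L w = 1)
    (hr : (rels.all fun w => (rels0 ++ [spider] ++ extra).contains w) = true)
    (hs : (subs.all fun w => w.all fun x => SH.contains x) = true)
    {E : Nat → Nat} {R : Tr (List Nat × Nat)}
    {d d' N nC : Nat} {C : Nat → Nat} {loops : List (List Nat × Nat × Nat)}
    (hR : checkRules rels subs R = true) (hd : checkDefs E 12 d' N = true)
    (hc : checkChunks E id R 12 d N nC C = true)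
    (hl : allList (checkLoop E id 12 (N + chunk * nC)) loops = true) :
    ∀ q ∈ loops, ev L q.1 ∈ HB L := by
  simp only [List.all_eq_true, List.contains_iff_mem] at hr hs
  refine ev_mem_of_loops (fun x => (inv_eq_of_mul_eq_one_right (hF.sq x)).symm) hR
    (hF.len.symm ▸ hd) (hF.len.symm ▸ hc) (hF.len.symm ▸ hl) (fun w hw => ?_) fun w hw =>
      ev_mem_genBy SH (hs w hw)
  rcases List.mem_append.mp (hr w hw) with h | h
  · rcases List.mem_append.mp h with h | h
    · exact hF.rel w h
    · rw [List.mem_singleton.mp h]; exact hF.spider_eq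
  · exact hex w h

/-- A word is among the loops. -/
def inLoops (loops : List (List Nat × Nat × Nat)) (w : List Nat) : Bool :=
  (loops.map Prod.fst).contains w

theorem mem_of_inLoops {loops : List (List Nat × Nat × Nat)}
    (hloop : ∀ q ∈ loops, ev L q.1 ∈ HB L) {w : List Nat} (h : inLoops loops w = true) :
    ev L w ∈ HB L := by
  rw [inLoops, List.contains_iff_mem] at h
  obtain ⟨q, hq, rfl⟩ := List.mem_map.mp h
  exact hloop q hq

/-- The certificate data of a part. -/
def mkPart (q : List Nat × List (List Nat) × Nat) : Part := ⟨q.1, q.2.1, q.2.2⟩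

theorem hk_of_loop (hF : Frame L) {Rw v : List Nat} (hv : ev L (1 :: v.reverse) ∈ HB L)
    (hm : ev L v ∈ Subgroup.closure ((HB L : Set Γ) ∪ {ev L Rw})) :
    fl L 1 ∈ Subgroup.closure ((HB L : Set Γ) ∪ {ev L Rw}) := by
  rw [ev_cons, ev_reverse' hF.sq] at hv
  have h1 : fl L 1 * (ev L v)⁻¹ ∈ Subgroup.closure ((HB L : Set Γ) ∪ {ev L Rw}) :=
    Subgroup.subset_closure (Or.inl hv)
  simpa using mul_mem h1 hm

theorem parts_ok (parts : List (List Nat × List (List Nat) × Nat))
    {loops : List (List Nat × Nat × Nat)} (hloop : ∀ q ∈ loops, ev L q.1 ∈ HB L)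
    (h : (parts.all fun q => q.2.1.all fun u =>
      decide (1 ∉ u) && inLoops loops (q.1 ++ u ++ q.1.reverse)) = true) :
    ∀ c ∈ parts.map mkPart, ∀ u ∈ c.U,
      (∀ x ∈ u, x ≠ 1) ∧ ev L (c.s ++ u ++ c.s.reverse) ∈ HB L := by
  simp only [List.all_eq_true, Bool.and_eq_true, decide_eq_true_eq] at h
  intro c hc u hu
  obtain ⟨q, hq, rfl⟩ := List.mem_map.mp hc
  obtain ⟨h1, h2⟩ := h q hq u hu
  exact ⟨fun x hx hx1 => h1 (hx1 ▸ hx), mem_of_inLoops hloop h2⟩

theorem card_H22 : 31671 * Nat.card Fi23.H = 4089470473293004800 := by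
  rw [← Fi23.index_and_eq.1, Subgroup.index_mul_card, Fi23.card_and_injective.1]

theorem SR_xl_image : Fi23.H ≤ genW Fi23.Lg ((Top0.parts.getD 3 ([], [], 0)).2.1.map proj) := by
  refine (Subgroup.closure_le _).mpr ?_
  rintro _ ⟨w, hw, rfl⟩
  exact ev_mem_genW ((by decide +kernel : ∀ w ∈ Fi23.Top.subs,
    w ∈ (Top0.parts.getD 3 ([], [], 0)).2.1.map proj) w hw)

theorem all_image : genW Fi23.Lg ((Top0.parts.getD 4 ([], [], 0)).2.1.map proj) = ⊤ := by
  rw [eq_top_iff, ← Fi23.closure_Lg, Subgroup.closure_le]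
  intro x hx
  obtain ⟨l, hl, rfl⟩ := List.getElem_of_mem hx
  have key : ∀ l < 10, [l] ∈ (Top0.parts.getD 4 ([], [], 0)).2.1.map proj := by decide +kernel
  have := ev_mem_genW (L := Fi23.Lg) (key l hl)
  rwa [ev_cons, ev_nil, mul_one, fl, List.getD_eq_getElem _ _ hl] at this

theorem index_all {U : List (List Nat)} (hU : ∀ x ∈ SH, [x] ∈ U) :
    (genW la U).index ≤ 1 ∧ (genW la U).index ≠ 0 := by
  have h : genW la U = ⊤ := by
    rw [eq_top_iff, ← closure_la, genBy, Subgroup.closure_le]
    intro y hy
    obtain ⟨l, hl, rfl⟩ := List.mem_map.mp hy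
    simpa using ev_mem_genW (L := la) (hU l hl)
  rw [h, Subgroup.index_top]
  exact ⟨le_rfl, one_ne_zero⟩

theorem hk_mem (hF : Frame L) (Rw : List Nat) :
    ev L (Rw.reverse ++ [3] ++ Rw) ∈ Subgroup.closure ((HB L : Set Γ) ∪ {ev L Rw}) := by
  have hr : ev L Rw ∈ Subgroup.closure ((HB L : Set Γ) ∪ {ev L Rw}) :=
    Subgroup.subset_closure (Or.inr rfl)
  rw [ev_append, ev_append, ev_reverse' hF.sq]
  exact mul_mem (mul_mem (inv_mem hr)
    (Subgroup.subset_closure (Or.inl (ev_mem_genBy SH (by simp [SH]))))) hr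

/-- `Fi₂₄` has at most the right order. -/
theorem card_le : Finite Cfsg.Spor.Fi24 ∧ Nat.card Cfsg.Spor.Fi24 ≤ 2510411418381323442585600 := by
  have hloop := frame.loops_mem (extra := [zword])
    (fun w hw => pres.ev_rels pres_ok w (rels_eq ▸ List.mem_append_right _ hw))
    (by decide +kernel) (by decide +kernel) Top.hR Top.hdefs Top.hsteps Top.hloops
  have e : Top.parts.map mkPart =
      [mkPart (Top.parts.getD 0 ([], [], 0)), mkPart (Top.parts.getD 1 ([], [], 0)), mkPart (Top.parts.getD 2 ([], [], 0))] := rfl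
  have hcase : ∀ c ∈ Top.parts.map mkPart, ∀ a : A, ∃ t : List Nat, (∀ x ∈ t, x ≠ 1) ∧
      (∃ u ∈ genW la c.U, σA a ⟨0, by decide⟩ = σA (u * ev la t) ⟨0, by decide⟩) ∧
      ∃ c' ∈ Top.parts.map mkPart, ∃ h : List Nat, (∀ x ∈ h, x ∈ SH) ∧
        ev Lg (c.s ++ t ++ Top.Rw.reverse ++ h.reverse ++ c'.s.reverse) ∈ HB Lg := by
    intro c hc
    rw [e] at hc
    simp only [List.mem_cons, List.not_mem_nil, or_false] at hc
    rcases hc with rfl | rfl | rfl
    · exact case_of_cert hloop (roots := Top.roots0) (Par := Top.Par0) (cases := Top.cases0)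
        (by decide +kernel) (by decide +kernel) (by decide +kernel)
    · exact case_of_cert hloop (roots := Top.roots1) (Par := Top.Par1) (cases := Top.cases1)
        (by decide +kernel) (by decide +kernel) (by decide +kernel)
    · exact case_of_cert hloop (roots := Top.roots2) (Par := Top.Par2) (cases := Top.cases2)
        (by decide +kernel) (by decide +kernel) (by decide +kernel)
  have hidx : ∀ c ∈ Top.parts.map mkPart,
      (genW la c.U).index ≤ c.m ∧ (genW la c.U).index ≠ 0 := by
    intro c hc
    rw [e] at hc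
    simp only [List.mem_cons, List.not_mem_nil, or_false] at hc
    rcases hc with rfl | rfl | rfl
    · exact index_all (by decide +kernel)
    · exact index_le_of_image (n := 29713078886400)
        (by
          rw [show (mkPart (Top.parts.getD 1 ([], [], 0))).U = gK by decide +kernel]
          exact card_K_lower)
        (by decide +kernel)
    · exact index_SR (by decide +kernel)
  have h := frame.closure_bound (Top.parts.map mkPart) Top.Rw (parts_ok _ hloop (by decide +kernel))
    hidx (fun x hx => mem_of_inLoops hloop ((by decide +kernel :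
      ∀ x ∈ SR, inLoops Top.loops (Top.Rw ++ [x] ++ Top.Rw.reverse) = true) x hx))
    hcase ⟨mkPart (Top.parts.getD 0 ([], [], 0)), by rw [e]; exact List.mem_cons_self, rfl⟩
    (hk_of_loop frame (mem_of_inLoops hloop (by decide +kernel)) (hk_mem frame Top.Rw))
  exact ⟨h.1, h.2.trans (by decide +kernel)⟩

/-- Without the long relator the order is at most three times as big. -/
theorem card_G0_le : Finite G0 ∧ Nat.card G0 ≤ 3 * 2510411418381323442585600 := by
  have hloop := frame0.loops_mem (extra := [])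
    (by simp)
    (by decide +kernel) (by decide +kernel) Top0.hR Top0.hdefs Top0.hsteps Top0.hloops
  have e : Top0.parts.map mkPart =
      [mkPart (Top0.parts.getD 0 ([], [], 0)), mkPart (Top0.parts.getD 1 ([], [], 0)), mkPart (Top0.parts.getD 2 ([], [], 0)), mkPart (Top0.parts.getD 3 ([], [], 0)), mkPart (Top0.parts.getD 4 ([], [], 0))] := rfl
  have hcase : ∀ c ∈ Top0.parts.map mkPart, ∀ a : A, ∃ t : List Nat, (∀ x ∈ t, x ≠ 1) ∧
      (∃ u ∈ genW la c.U, σA a ⟨0, by decide⟩ = σA (u * ev la t) ⟨0, by decide⟩) ∧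
      ∃ c' ∈ Top0.parts.map mkPart, ∃ h : List Nat, (∀ x ∈ h, x ∈ SH) ∧
        ev Lg0 (c.s ++ t ++ Top0.Rw.reverse ++ h.reverse ++ c'.s.reverse) ∈ HB Lg0 := by
    intro c hc
    rw [e] at hc
    simp only [List.mem_cons, List.not_mem_nil, or_false] at hc
    rcases hc with rfl | rfl | rfl | rfl | rfl
    · exact case_of_cert hloop (roots := Top0.roots0) (Par := Top0.Par0) (cases := Top0.cases0)
        (by decide +kernel) (by decide +kernel) (by decide +kernel)
    · exact case_of_cert hloop (roots := Top0.roots1) (Par := Top0.Par1) (cases := Top0.cases1)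
        (by decide +kernel) (by decide +kernel) (by decide +kernel)
    · exact case_of_cert hloop (roots := Top0.roots2) (Par := Top0.Par2) (cases := Top0.cases2)
        (by decide +kernel) (by decide +kernel) (by decide +kernel)
    · exact case_of_cert hloop (roots := Top0.roots3) (Par := Top0.Par3) (cases := Top0.cases3)
        (by decide +kernel) (by decide +kernel) (by decide +kernel)
    · exact case_of_cert hloop (roots := Top0.roots4) (Par := Top0.Par4) (cases := Top0.cases4)
        (by decide +kernel) (by decide +kernel) (by decide +kernel)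
  have hidx : ∀ c ∈ Top0.parts.map mkPart,
      (genW la c.U).index ≤ c.m ∧ (genW la c.U).index ≠ 0 := by
    intro c hc
    rw [e] at hc
    simp only [List.mem_cons, List.not_mem_nil, or_false] at hc
    rcases hc with rfl | rfl | rfl | rfl | rfl
    · exact index_all (by decide +kernel)
    · exact index_le_of_image (n := 9904359628800)
        (by
          rw [show (mkPart (Top0.parts.getD 1 ([], [], 0))).U = gC by decide +kernel]
          exact card_C_lower)
        (by decide +kernel)
    · exact index_SR (by decide +kernel)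
    · refine index_le_of_image (n := Nat.card Fi23.H) ?_ ?_
      · haveI := Fi23.card_le.1
        exact Nat.le_of_dvd Nat.card_pos (Subgroup.card_dvd_of_le SR_xl_image)
      · show 8178940946586009600 ≤ 63342 * Nat.card Fi23.H
        have := card_H22
        omega
    · refine index_le_of_image (n := 4089470473293004800) ?_ ?_
      · show _ ≤ Nat.card (genW Fi23.Lg ((Top0.parts.getD 4 ([], [], 0)).2.1.map proj))
        rw [all_image, Subgroup.card_top, Fi23.card_and_injective.1]
      · decide +kernel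
  have h := frame0.closure_bound (Top0.parts.map mkPart) Top0.Rw (parts_ok _ hloop (by decide +kernel))
    hidx (fun x hx => mem_of_inLoops hloop ((by decide +kernel :
      ∀ x ∈ SR, inLoops Top0.loops (Top0.Rw ++ [x] ++ Top0.Rw.reverse) = true) x hx))
    hcase ⟨mkPart (Top0.parts.getD 0 ([], [], 0)), by rw [e]; exact List.mem_cons_self, rfl⟩
    (hk_of_loop frame0 (mem_of_inLoops hloop (by decide +kernel)) (hk_mem frame0 Top0.Rw))
  exact ⟨h.1, h.2.trans (by decide +kernel)⟩

end CfsgLib.Coset.Fi24
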