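import Cfsg.Agent.Coset.Fi24.KappaCheck0
import Cfsg.Agent.Coset.Fi24.KappaCheck1
import Cfsg.Agent.Coset.Fi24.KappaCheck2
import Cfsg.Agent.Coset.Fi24.KappaCheck3
import Cfsg.Agent.Coset.Fi24.KappaCheck4
import Cfsg.Agent.Coset.Fi24.KappaCheck5
import Cfsg.Agent.Coset.Fi24.Equivariant
import Cfsg.Agent.Coset.Fi24.Upper

/-!
The permutation of `k` on the points, and the relators of the presentation.
-/

set_option autoImplicit false
set_option maxRecDepth 100000
set_option Elab.async false

namespace CfsgLib.Coset.Fi24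

theorem forestOn_sound {n : Nat} {G : Type*} [Group G] {L : List G} {Tb : Nat → Nat}
    {ρ : G →* Equiv.Perm (Fin n)} (hm : Matches L ρ Tb) {m : Nat → Nat} {dn : Nat}
    {gens : List (List Nat)} {roots : List Nat} {Par : Nat → Nat}
    (hc : allBelow dn n (forestAt Tb gens roots Par m n) = true)
    (hl : checkLetters L.length gens = true) {S : Subgroup G} (hS : ∀ w ∈ gens, ev L w ∈ S)
    (i : Fin n) (hi : inMask m i = true) :
    ∃ r ∈ roots, ∃ β : Fin n, (β : Nat) = r ∧ i ∈ orb ρ S β := by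
  obtain ⟨d, hd⟩ : ∃ d, field (Par i) 2 = d := ⟨_, rfl⟩
  induction d using Nat.strong_induction_on generalizing i with
  | _ d ih =>
    have h := of_allBelow hc i i.2
    unfold forestAt at h
    rw [hi, cond_true] at h
    cases hr : (List.rec false (fun r _ ih => cond (Nat.beq r (i : Nat)) true ih) roots : Bool)
    · rw [hr, cond_false] at h
      simp only [cond_false_eq_true] at h
      obtain ⟨h1, h2, h3, h4⟩ := h
      obtain ⟨r, hr', β, hβ, g, hg, hge⟩ := ih (field (Par (field (Par i) 0)) 2)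
        (hd ▸ Nat.ble_eq.mp h3) ⟨_, Nat.ble_eq.mp h1⟩ h2 rfl
      refine ⟨r, hr', β, hβ, (ev L (gens.getD (field (Par i) 1) []))⁻¹ * g, ?_, ?_⟩
      · refine mul_mem (inv_mem ?_) hg
        rcases lt_or_ge (field (Par i) 1) gens.length with hi | hi
        · rw [List.getD_eq_getElem _ _ hi]; exact hS _ (List.getElem_mem hi)
        · rw [List.getD_eq_default _ _ hi]; exact S.one_mem
      · rw [map_mul, Equiv.Perm.mul_apply, hge, map_inv]
        exact Fin.ext ((hm.follow_eq _ _ (letters_getD hl _)).trans (Nat.eq_of_beq_eq_true h4))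
    · have : (i : Nat) ∈ roots := by
        clear h ih hd hc
        induction roots with
        | nil => simp at hr
        | cons a t iht =>
          change cond (Nat.beq a i) true _ = true at hr
          cases hb : Nat.beq a (i : Nat)
          · rw [hb, cond_false] at hr; exact List.mem_cons_of_mem _ (iht hr)
          · simp [Nat.eq_of_beq_eq_true hb]
      exact ⟨i, this, i, rfl, self_mem_orb S i⟩

theorem len_X : MD.X.length = 8 := by decide +kernel

/-- The representatives. -/
noncomputable def px (i : Fin 8) : Om := pt (MD.X.getD i (0, []))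

/-- Their images under `k`. -/
noncomputable def py (i : Fin 8) : Om := pt (MD.Y.getD i (0, []))

theorem act_ev_inv_pt (x : Nat × List Nat) (v : List Nat) :
    (act (ev la (expW gK v)))⁻¹ (pt x) = pt (moveCode x v) := (pt_append x.1 x.2 _).symm


theorem SK_fix (i : Fin 8) : ∀ s ∈ SK i, act s (px i) = px i ∧ act s (py i) = py i := by
  intro s hs
  induction hs using Subgroup.closure_induction with
  | mem y hy =>
    obtain ⟨w, hw, rfl⟩ := hy
    obtain ⟨v, hv, rfl⟩ := List.mem_map.mp hw
    have h := of_allBelow stab_ok i i.2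
    unfold stabAt at h
    rw [cond_false_eq_true] at h
    obtain ⟨j, hj, rfl⟩ := List.getElem_of_mem hv
    have hj' : j < (MD.stab.getD i []).length := Nat.eq_of_beq_eq_true h.1 ▸ hj
    have hq := allList_iff.mp h.2 ((SIdx i)[j], (MD.stab.getD i [])[j]) (by
      rw [← List.getElem_zip (h := by rw [List.length_zip]; omega)]
      exact List.getElem_mem _)
    rw [cond_false_eq_true] at hq
    constructor
    · have := pt_eq hq.1
      rw [← act_ev_inv_pt, Equiv.Perm.inv_def, Equiv.symm_apply_eq] at this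
      exact this.symm
    · have := pt_eq hq.2
      rw [← act_ev_inv_pt, Equiv.Perm.inv_def, Equiv.symm_apply_eq] at this
      exact this.symm
  | one => simp
  | mul a b _ _ ha hb => simp [map_mul, Equiv.Perm.mul_apply, ha.1, ha.2, hb.1, hb.2]
  | inv a _ ha =>
    rw [map_inv, Equiv.Perm.inv_def, Equiv.symm_apply_eq, Equiv.symm_apply_eq]
    exact ⟨ha.1.symm, ha.2.symm⟩

instance finite_Om : Finite Om := by
  haveI := card_A.1
  infer_instance

theorem card_Om : Nat.card Om = 306936 := by
  haveI := card_A.1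
  rw [Finite.card_option, Nat.card_sum, Nat.card_fin]
  have := K2_index
  rw [Subgroup.index] at this
  omega

/-- The element `a`. -/
noncomputable def a0 : A := ev la [2]

theorem wPa_ok : follow (tget Fi23.Top.Tb) 0 MD.wPa = MD.Pa ∧ MD.Pa < 31671 ∧
    checkLetters 10 [MD.wPa] = true := by
  decide +kernel

/-- The point fixed by the centraliser of `a`. -/
def Pa : Fin 31671 := ⟨MD.Pa, wPa_ok.2.1⟩

theorem commute_a0 {x : A} (hx : σA x Pa = Pa) : Commute x a0 := by
  set w := ev Fi23.Lg MD.wPa with hw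
  have hP : (Fi23.ρ w)⁻¹ ⟨0, by decide⟩ = Pa := Fin.ext (by
    rw [hw, Fi23.matches_ρ.follow_eq MD.wPa _ (fun l hl => by
      rw [Fi23.len_Lg]; exact letters_lt wPa_ok.2.2 _ (List.mem_singleton_self _) l hl)]
    exact wPa_ok.1)
  have hfix : w * x.1 * w⁻¹ ∈ Fi23.H := by
    rw [Fi23.index_and_eq.2, mem_pstab, map_mul, map_mul, map_inv, Equiv.Perm.mul_apply,
      Equiv.Perm.mul_apply, hP]
    show Fi23.ρ w (σA x Pa) = _
    rw [hx, ← hP]; simp
  rw [← Fi23.centralizer_t, Subgroup.mem_centralizer_singleton_iff] at hfix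
  have ha : w⁻¹ * Fi23.t * w = fl Fi23.Lg 0 := by
    rw [hw, Fi23.t, ← Fi23.ev_reverse, ← ev_append, ← ev_append]
    refine (Fi23.ev_eq (v := MD.wPa.reverse ++ Fi23.zw ++ MD.wPa) (w := [0]) (by decide +kernel)
      (by decide +kernel) (by decide +kernel)).trans (by simp)
  have h1 : Commute x.1 (fl Fi23.Lg 0) := by
    rw [← ha]
    show x.1 * (w⁻¹ * Fi23.t * w) = w⁻¹ * Fi23.t * w * x.1
    calc x.1 * (w⁻¹ * Fi23.t * w) = w⁻¹ * (w * x.1 * w⁻¹ * Fi23.t) * w := by group
      _ = w⁻¹ * (Fi23.t * (w * x.1 * w⁻¹)) * w := by rw [hfix]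
      _ = w⁻¹ * Fi23.t * w * x.1 := by group
  have e : a0 = (fl Fi23.Lg 0, tau) := by
    have h := fl_la_add (l := 0) (by norm_num)
    rw [a0, ev_cons, ev_nil, mul_one]
    exact h
  rw [e]
  exact Prod.ext h1 (mul_comm _ _)

theorem gK_pal : ∀ g ∈ gK, g.reverse = g := by decide +kernel


theorem mask_Pa : inMask MD.mask MD.Pa = true := by decide +kernel

theorem gK_letters : checkLetters 10 (gK.map proj) = true := by decide +kernel

theorem σA_ev_inv (w : List Nat) (h : checkLetters 10 [proj w] = true) (i : Fin 31671) :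
    (((σA (ev la w))⁻¹ i : Fin 31671) : Nat) = follow (tget Fi23.Top.Tb) i (proj w) := by
  rw [show σA (ev la w) = Fi23.ρ (ev Fi23.Lg (proj w)) by
    rw [MonoidHom.comp_apply, MonoidHom.coe_fst, fst_ev]]
  exact Fi23.matches_ρ.follow_eq _ _
    (fun l hm => by rw [Fi23.len_Lg]; exact letters_lt h _ (List.mem_singleton_self _) l hm)

theorem gK_cases : ∀ g ∈ gK, (∃ l ∈ [1, 2, 3, 4, 5, 6, 7, 8, 9], proj g = [l]) ∨ g = Chain.q := by
  decide +kernel

theorem mask_step {g : List Nat} (hg : g ∈ gK) {i : Fin 31671} (hi : inMask MD.mask i = true) :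
    inMask MD.mask (σA (ev la g) i) = true := by
  have hl : checkLetters 10 [proj g] = true :=
    allList_iff.mpr fun v hv => (List.mem_singleton.mp hv) ▸
      allList_iff.mp gK_letters _ (List.mem_map.mpr ⟨g, hg, rfl⟩)
  have e : σA (ev la g) = (σA (ev la g))⁻¹ := by
    conv_lhs => rw [← gK_pal g hg, ev_reverse_la, map_inv]
  rw [e, σA_ev_inv g hl]
  rcases gK_cases g hg with ⟨l, hl9, hp⟩ | rfl
  · have h := of_allBelow mask_ok i i.2
    unfold maskAt at h
    rw [hi, cond_true] at h
    rw [hp]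
    exact allList_iff.mp h l hl9
  · by_contra hne
    set j : Fin 31671 := (σA (ev la Chain.q))⁻¹ i with hj
    have hjm : inMask MD.mask (j : Nat) = false := by
      rw [hj, σA_ev_inv Chain.q hl]; simpa using hne
    have h := of_allBelow mask_ok j j.2
    unfold maskAt at h
    rw [hjm, cond_false] at h
    have hback : follow (tget Fi23.Top.Tb) (j : Nat) (proj Chain.q) = (i : Nat) := by
      rw [← σA_ev_inv Chain.q hl j, hj, ← e, ← Equiv.Perm.mul_apply]
      nth_rw 2 [e]
      rw [mul_inv_cancel]; rfl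
    rw [hback, hi] at h
    simp at h

theorem mem_mask {e : A} (he : e ∈ K2) : inMask MD.mask (σA e Pa) = true := by
  induction he using Subgroup.closure_induction_left with
  | one => rw [map_one]; exact mask_Pa
  | mul_left x hx y hy ih =>
    obtain ⟨g, hg, rfl⟩ := hx
    rw [map_mul, Equiv.Perm.mul_apply]
    exact mask_step hg ih
  | inv_mul_cancel x hx y hy ih =>
    obtain ⟨g, hg, rfl⟩ := hx
    rw [map_mul, Equiv.Perm.mul_apply, ← ev_reverse_la, gK_pal g hg]
    exact mask_step hg ih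

/-- The roots of one forest. -/
def rootsK : Nat → List Nat
  | 3 => MD.roots1
  | 4 => MD.roots1
  | 5 => MD.roots1
  | 6 => MD.roots2
  | 7 => MD.roots3
  | _ => MD.roots0


theorem SW_eq : MD.S0W = MD.S0.map (fun v => proj (expW gK v)) ∧
    MD.S1W = MD.S1.map (fun v => proj (expW gK v)) ∧
    MD.S2W = MD.S2.map (fun v => proj (expW gK v)) ∧
    MD.S3W = MD.S3.map (fun v => proj (expW gK v)) := by decide +kernel


theorem ka_roots : ∀ i : Fin 8, rootsK i = (MD.ka.getD i []).map Prod.fst := by decide +kernel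

theorem split_Ka (i : Fin 8) {e : A} (he : e ∈ K2) :
    ∃ q ∈ MD.ka.getD i [], ∃ e' ∈ K2, Commute e' a0 ∧
      act e (px i) = act e' (pt ((MD.X.getD i (0, [])).1,
        (MD.X.getD i (0, [])).2 ++ (expW gK q.2.1).reverse)) := by
  have hS : ∀ (v : List (List Nat)), v = (SIdx i).map (fun v => proj (expW gK v)) →
      ∀ w ∈ v, ev Fi23.Lg w ∈ (SK i).map (MonoidHom.fst Cfsg.Spor.Fi23 (Multiplicative (ZMod 2))) := by
    intro v hv w hw
    subst hv
    obtain ⟨u, hu, rfl⟩ := List.mem_map.mp hw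
    exact ⟨ev la (expW gK u), ev_mem_genW (List.mem_map.mpr ⟨u, hu, rfl⟩), fst_ev _⟩
  have hforest : ∃ r ∈ rootsK i, ∃ β : Fin 31671, (β : Nat) = r ∧ σA e⁻¹ Pa ∈
      orb Fi23.ρ ((SK i).map (MonoidHom.fst Cfsg.Spor.Fi23 (Multiplicative (ZMod 2)))) β := by
    have hm := mem_mask (inv_mem he)
    obtain ⟨e0, e1, e2, e3⟩ := SW_eq
    fin_cases i
    all_goals first
      | exact forestOn_sound matches_fst forest0 (by decide +kernel) (hS _ e0) _ hm
      | exact forestOn_sound matches_fst forest1 (by decide +kernel) (hS _ e1) _ hm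
      | exact forestOn_sound matches_fst forest2 (by decide +kernel) (hS _ e2) _ hm
      | exact forestOn_sound matches_fst forest3 (by decide +kernel) (hS _ e3) _ hm
  obtain ⟨r, hr, β, hβ, s', ⟨s, hs, rfl⟩, hse⟩ := hforest
  rw [ka_roots, List.mem_map] at hr
  obtain ⟨q, hq, rfl⟩ := hr
  have h := allList_iff.mp (of_allBelow ka_ok i i.2) q hq
  unfold kaAt at h
  simp only [cond_false_eq_true] at h
  obtain ⟨hl, hr, -⟩ := h
  set d := ev la (expW gK q.2.1) with hd
  have hd' : (σA d)⁻¹ Pa = β := Fin.ext (by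
    rw [hd, σA_ev_inv _ hl, hβ]; exact Nat.eq_of_beq_eq_true hr)
  refine ⟨q, hq, e * s * d⁻¹,
    mul_mem (mul_mem he (SK_le i hs)) (inv_mem (ev_expW_mem la gK _)), commute_a0 ?_, ?_⟩
  · have hse' : σA s β = σA e⁻¹ Pa := hse
    rw [map_mul, map_mul, map_inv, Equiv.Perm.mul_apply, Equiv.Perm.mul_apply, hd', hse', map_inv]
    simp
  · rw [pt_append, ev_reverse_la, ← hd, map_inv, inv_inv]
    show act e (px i) = act (e * s * d⁻¹) (act d (px i))
    rw [← Equiv.Perm.mul_apply, ← map_mul, inv_mul_cancel_right, map_mul, Equiv.Perm.mul_apply,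
      (SK_fix i s hs).1]


theorem rootsO_eq : ∀ r ∈ MD.rootsO, ∃ i : Fin 8, (MD.X.getD i (0, [])).1 = 1 ∧
    checkLetters 10 [proj (MD.X.getD i (0, [])).2] = true ∧
    follow (tget Fi23.Top.Tb) 0 (proj (MD.X.getD i (0, [])).2) = r := by decide +kernel

theorem a_closed : oneA ([0] ++ ((List.replicate 9 [2, 3, 4, 5, 6, 7, 10]).flatten).reverse) = true := by
  decide +kernel

theorem cover (ω : Om) : ∃ i, ∃ k ∈ K2, act k (px i) = ω := by
  rcases ω with _ | p | c
  · refine ⟨0, 1, one_mem _, ?_⟩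
    rw [map_one, Equiv.Perm.one_apply, px, show MD.X.getD ((0 : Fin 8) : Nat) (0, []) = (0, []) by
      decide +kernel]
    simp [pt, bpt]
  · obtain ⟨r, hr, β, hβ, g, hg, hge⟩ := forest_sound matches_fst forestO
      (Fi23.len_Lg ▸ gK_letters) (S := genW Fi23.Lg (gK.map proj)) (fun w hw => ev_mem_genW hw) p
    rw [← map_fst_genW] at hg
    obtain ⟨u, hu, rfl⟩ := hg
    obtain ⟨i, hk, hl, hf⟩ := rootsO_eq r hr
    refine ⟨i, u, hu, ?_⟩
    have : px i = some (.inl β) := by
      rw [px, pt, hk, ← map_inv, bpt, act_inl, map_inv]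
      exact congrArg some (congrArg Sum.inl (Fin.ext (by rw [σA_ev_inv _ hl, hβ]; exact hf)))
    rw [this, act_inl]
    exact congrArg some (congrArg Sum.inl hge)
  · induction c using QuotientGroup.induction_on with
    | _ x =>
    let Y : Set Om := {ω | ∃ i : Fin 8, (MD.X.getD i (0, [])).1 = 2 ∧ ∃ k ∈ K2, act k (px i) = ω}
    suffices h : ∀ y : A, (some (.inr (QuotientGroup.mk y)) : Om) ∈ Y by
      obtain ⟨i, -, k, hk, he⟩ := h x; exact ⟨i, k, hk, he⟩
    have hgen : Subgroup.closure ((K2 : Set A) ∪ {a0}) = ⊤ := by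
      rw [eq_top_iff, ← closure_la, genBy, Subgroup.closure_le]
      intro z hz
      obtain ⟨l, hl, rfl⟩ := List.mem_map.mp hz
      have hC : ∀ l ∈ [3, 4, 5, 6, 7, 8, 9, 10, 11], ev la [l] ∈ K2 := fun l hl =>
        ev_mem_genW ((by decide +kernel : ∀ l ∈ [3, 4, 5, 6, 7, 8, 9, 10, 11], [l] ∈ gK) l hl)
      have hin : ∀ l ∈ [2, 3, 4, 5, 6, 7, 8, 9, 10, 11],
          ev la [l] ∈ Subgroup.closure ((K2 : Set A) ∪ {a0}) := by
        intro l hl
        rcases List.mem_cons.mp hl with rfl | hl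
        · exact Subgroup.subset_closure (Or.inr rfl)
        · exact Subgroup.subset_closure (Or.inl (hC l hl))
      show fl la l ∈ Subgroup.closure ((K2 : Set A) ∪ {a0})
      rcases eq_or_ne l 0 with rfl | h0
      · have h := eq_one_of_oneA a_closed
        rw [ev_append, ev_reverse_la, mul_inv_eq_one, ev_cons, ev_nil, mul_one] at h
        rw [h]
        have : ∀ w : List Nat, (∀ y ∈ w, y ∈ [2, 3, 4, 5, 6, 7, 8, 9, 10, 11]) →
            ev la w ∈ Subgroup.closure ((K2 : Set A) ∪ {a0}) := by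
          intro w
          induction w with
          | nil => intro _; exact one_mem _
          | cons y w ih =>
            intro hw
            rw [ev_cons]
            refine mul_mem ?_ (ih fun z hz => hw z (by simp [hz]))
            simpa using hin y (hw y (by simp))
        exact this _ (by decide +kernel)
      · have hl' : l ∈ [2, 3, 4, 5, 6, 7, 8, 9, 10, 11] := by
          rcases List.mem_cons.mp hl with h | h
          · exact absurd h h0
          · exact h
        simpa using hin l hl'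
    intro y
    have hy : y ∈ Subgroup.closure ((K2 : Set A) ∪ {a0}) := hgen ▸ Subgroup.mem_top y
    have ha : ∀ ω ∈ Y, act a0 ω ∈ Y := by
      rintro _ ⟨i, hi, e, he, rfl⟩
      obtain ⟨q, hq, e', he', hc, hx⟩ := split_Ka i he
      have h := allList_iff.mp (of_allBelow ka_ok i i.2) q hq
      unfold kaAt at h
      simp only [cond_false_eq_true] at h
      obtain ⟨-, -, -, h⟩ := h
      rw [show Nat.beq (MD.X.getD i (0, [])).1 2 = true by rw [hi]; rfl, cond_true] at h
      simp only [cond_false_eq_true] at h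
      obtain ⟨hj, hj2, hq'⟩ := h
      refine ⟨⟨_, Nat.ble_eq.mp hj⟩, Nat.eq_of_beq_eq_true hj2,
        e' * (ev la (expW gK q.2.2.2.2.1))⁻¹, mul_mem he' (inv_mem (ev_expW_mem la gK _)), ?_⟩
      rw [map_mul, Equiv.Perm.mul_apply, map_inv, px, act_ev_inv_pt, ← pt_eq hq', pt_append,
        hx, ← map_inv, show (ev la [2])⁻¹ = a0 from inv_eq_of_mul_eq_one_right (by
          rw [a0, ev_cons, ev_nil, mul_one, sq_la]),
        ← Equiv.Perm.mul_apply, ← map_mul, hc.eq, map_mul, Equiv.Perm.mul_apply]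
    have ha0 : a0⁻¹ = a0 := inv_eq_of_mul_eq_one_right (by rw [a0, ev_cons, ev_nil, mul_one, sq_la])
    have hstep : ∀ g : A, (g ∈ K2 ∨ g = a0) → ∀ ω ∈ Y, act g ω ∈ Y := by
      rintro g (hg | rfl) ω hω
      · obtain ⟨i, hi, k, hk, rfl⟩ := hω
        exact ⟨i, hi, g * k, mul_mem hg hk, by rw [map_mul, Equiv.Perm.mul_apply]⟩
      · exact ha ω hω
    induction hy using Subgroup.closure_induction_left with
    | one =>
      refine ⟨1, by decide +kernel, 1, one_mem _, ?_⟩
      rw [map_one, Equiv.Perm.one_apply, px,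
        show MD.X.getD ((1 : Fin 8) : Nat) (0, []) = (2, []) by decide +kernel]
      simp [pt, bpt]
    | mul_left g hg z hz ih => exact act_inr g z ▸ hstep g (hg.imp id Set.mem_singleton_iff.mp) _ ih
    | inv_mul_cancel g hg z hz ih =>
      refine act_inr g⁻¹ z ▸ hstep g⁻¹ ?_ _ ih
      rcases hg with hg | hg
      · exact Or.inl (inv_mem hg)
      · exact Or.inr (by rw [Set.mem_singleton_iff.mp hg, ha0])

theorem kappa_spec : ∃ f : Om → Om, (∀ i, ∀ k ∈ K2, f (act k (px i)) = act k (py i)) ∧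
    ∀ i : Fin 8, (Set.range fun k : K2 => act k (px i)).ncard = MD.sizes.getD i 0 := by
  haveI := card_A.1
  refine exists_equivariant act K2 px py (fun i => MD.sizes.getD i 0) (fun i => ?_) ?_ cover
  · exact pair_orbit_bound act K2 (SK_le i) (fun s hs => (SK_fix i s hs).1)
      (fun s hs => (SK_fix i s hs).2) (card_K2.1 ▸ card_SK i)
  · rw [card_Om]; decide +kernel

/-- The map of `k`. -/
noncomputable def kap : Om → Om := kappa_spec.choose

theorem kap_pair (i : Fin 8) {k : A} (hk : k ∈ K2) : kap (act k (px i)) = act k (py i) :=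
  kappa_spec.choose_spec.1 i k hk

theorem orbit_size (i : Fin 8) :
    (Set.range fun k : K2 => act k (px i)).ncard = MD.sizes.getD i 0 :=
  kappa_spec.choose_spec.2 i


theorem kap_involutive : Function.Involutive kap := by
  intro ω
  obtain ⟨i, k, hk, rfl⟩ := cover ω
  have h := of_allBelow kk_ok i i.2
  unfold kkAt at h
  generalize (MD.kk.getD i ([], [])).1 = steps at h
  match steps with
  | [] => simp at h
  | s :: _ =>
    change cond (stepOK s _) _ false = true at h
    unfold stepOK at h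
    simp only [cond_false_eq_true] at h
    obtain ⟨⟨hj, h1⟩, h2⟩ := h
    have hv : (ev la (expW gK s.2.1))⁻¹ ∈ K2 := inv_mem (ev_expW_mem la gK _)
    have e1 : py i = act (ev la (expW gK s.2.1))⁻¹ (px ⟨_, Nat.ble_eq.mp hj⟩) := by
      rw [map_inv, px, act_ev_inv_pt]; exact pt_eq h1
    rw [kap_pair i hk, e1, ← Equiv.Perm.mul_apply, ← map_mul, kap_pair _ (mul_mem hk hv), map_mul,
      Equiv.Perm.mul_apply, map_inv, py, act_ev_inv_pt, pt_eq h2]
    rfl

/-- The permutation of `k`. -/
noncomputable def κ : Equiv.Perm Om := kap_involutive.toPerm _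

theorem κ_apply (ω : Om) : κ ω = kap ω := rfl

theorem κ_sq : κ * κ = 1 := Equiv.ext kap_involutive

theorem κ_comm {g : A} (hg : g ∈ K2) : Commute κ (act g) := by
  refine Equiv.ext fun ω => ?_
  obtain ⟨i, k, hk, rfl⟩ := cover ω
  rw [Equiv.Perm.mul_apply, Equiv.Perm.mul_apply, κ_apply, κ_apply, ← Equiv.Perm.mul_apply,
    ← map_mul, kap_pair i (mul_mem hg hk), kap_pair i hk, map_mul, Equiv.Perm.mul_apply]

theorem hκ : ∀ i < MD.X.length, ∀ a ∈ K2,
    κ (act a (pt (MD.X.getD i (0, [])))) = act a (pt (MD.Y.getD i (0, []))) := fun i hi _ ha =>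
  kap_pair ⟨i, len_X ▸ hi⟩ ha

theorem eq_one_of_reps {g : Equiv.Perm Om} (hc : ∀ k ∈ K2, Commute g (act k))
    (h : ∀ i, g (px i) = px i) : g = 1 := by
  refine Equiv.ext fun ω => ?_
  obtain ⟨i, k, hk, rfl⟩ := cover ω
  rw [← Equiv.Perm.mul_apply, (hc k hk).eq, Equiv.Perm.mul_apply, h]
  rfl


theorem kl_rel : ev (LP κ) [1, 0, 1, 0, 1, 0] = 1 := by
  refine eq_one_of_reps (fun k hk => ?_) fun i => ?_
  · have hl : Commute (act (fl la 0)) (act k) := by
      refine Commute.map ?_ act
      rw [fl_la_zero]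
      exact Prod.ext (by simp) (mul_comm _ _)
    simp only [ev_cons, ev_nil, mul_one, fl_LP_one, fl_LP κ (show (0 : Nat) ≠ 1 by norm_num)]
    exact (κ_comm hk).mul_left (hl.mul_left ((κ_comm hk).mul_left (hl.mul_left
      ((κ_comm hk).mul_left hl))))
  · have h := walkPt_sound hκ κ_sq _ _ _ _ _ _ (of_allBelow kl_ok i i.2)
    rw [Equiv.Perm.inv_def, Equiv.symm_apply_eq] at h
    exact h.symm

theorem ka_rel : ev (LP κ) [1, 2, 1, 2, 1, 2] = 1 := by
  refine Equiv.ext fun ω => ?_
  obtain ⟨i, e, he, rfl⟩ := cover ω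
  obtain ⟨q, hq, e', he', hc, hx⟩ := split_Ka i he
  rw [hx]
  have h := allList_iff.mp (of_allBelow ka_ok i i.2) q hq
  unfold kaAt at h
  simp only [cond_false_eq_true] at h
  obtain ⟨-, -, hw, -⟩ := h
  have hf := walkPt_sound hκ κ_sq _ _ _ _ _ _ hw
  rw [Equiv.Perm.inv_def, Equiv.symm_apply_eq] at hf
  have hcomm : Commute (ev (LP κ) [1, 2, 1, 2, 1, 2]) (act e') := by
    have ha : Commute (act (fl la 2)) (act e') := by
      refine Commute.map ?_ act
      simpa [a0] using hc.symm
    simp only [ev_cons, ev_nil, mul_one, fl_LP_one, fl_LP κ (show (2 : Nat) ≠ 1 by norm_num)]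
    exact (κ_comm he').mul_left (ha.mul_left ((κ_comm he').mul_left (ha.mul_left
      ((κ_comm he').mul_left ha))))
  rw [← Equiv.Perm.mul_apply, hcomm.eq, Equiv.Perm.mul_apply, ← hf]
  rfl


theorem LP_rels : ∀ w ∈ rels0, ev (LP κ) w = 1 := by
  intro w hw
  have h := allList_iff.mp rel_shapes w hw
  unfold relShape at h
  cases h1 : wordEq w [1, 1]
  · rw [h1, cond_false] at h
    cases h2 : wordEq w [0, 1, 0, 1, 0, 1]
    · rw [h2, cond_false] at h
      cases h3 : wordEq w [1, 2, 1, 2, 1, 2]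
      · rw [h3, cond_false] at h
        cases h4 : [3, 4, 5, 6, 7, 8, 9, 10, 11].any fun x => decide (w = [1, x, 1, x])
        · rw [h4, cond_false, cond_false_eq_true] at h
          have hne : ∀ x ∈ w, x ≠ 1 := fun x hx hx1 => by
            have := allList_iff.mp h.1 x hx
            subst hx1
            simp at this
          rw [ev_LP κ w hne, eq_one_of_oneA h.2, map_one]
        · obtain ⟨x, hx, hwx⟩ := List.any_eq_true.mp h4
          rw [decide_eq_true_eq] at hwx
          subst hwx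
          have hk : fl la x ∈ K2 := by
            have := ev_mem_genW (L := la)
              ((by decide +kernel : ∀ x ∈ [3, 4, 5, 6, 7, 8, 9, 10, 11], [x] ∈ gK) x hx)
            simpa [K2] using this
          have hx1 : x ≠ 1 := by rintro rfl; simp at hx
          simp only [ev_cons, ev_nil, mul_one, fl_LP_one, fl_LP κ hx1]
          have h := (κ_comm hk).mul_pow 2
          rw [pow_two, pow_two, pow_two, κ_sq, ← map_mul, sq_la, map_one, mul_one] at h
          simpa [mul_assoc] using h
      · rw [eq_of_wordEq h3]; exact ka_rel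
    · rw [eq_of_wordEq h2]
      have h := kl_rel
      simp only [ev_cons, ev_nil, mul_one, ← mul_assoc] at h ⊢
      set L0 := fl (LP κ) 0
      set K0 := fl (LP κ) 1
      calc L0 * K0 * L0 * K0 * L0 * K0 = L0 * (K0 * L0 * K0 * L0 * K0 * L0) * L0⁻¹ := by group
        _ = 1 := by rw [h, mul_one, mul_inv_cancel]
  · rw [eq_of_wordEq h1]
    simp [fl_LP_one, κ_sq]

/-- The action of the triple cover on the points. -/
noncomputable def ρ0 : G0 →* Equiv.Perm Om :=
  pres0.hom pres0_ok (fun w hw => LP_rels w (rels0_eq ▸ hw))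

end CfsgLib.Coset.Fi24
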