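import Cfsg.Agent.Coset.Fi24.Stab
import Cfsg.Agent.Coset.Fi24.Upper

/-! Certificates for the permutation of `k`. -/

set_option autoImplicit false
set_option maxRecDepth 100000
set_option Elab.async false

namespace CfsgLib.Coset.Fi24

section Kernel

/-- Membership in a bit mask. -/
noncomputable def inMask (m : Nat → Nat) (i : Nat) : Bool := Nat.beq (Nat.land (m i) 1) 1

/-- The mask is closed under the letters `b, …, i` and its complement under `q`. -/
noncomputable def maskAt (Tb : Nat → Nat) (qw : List Nat) (m : Nat → Nat) (i : Nat) : Bool :=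
  cond (inMask m i) (allList (fun l => inMask m (tget Tb i l)) [1, 2, 3, 4, 5, 6, 7, 8, 9])
    (cond (inMask m (follow (tget Tb) i qw)) false true)

/-- Every point of the mask reaches a root through the words. -/
noncomputable def forestAt (Tb : Nat → Nat) (gens : List (List Nat)) (roots : List Nat)
    (Par : Nat → Nat) (m : Nat → Nat) (n i : Nat) : Bool :=
  cond (inMask m i)
    (cond (List.rec false (fun r _ ih => cond (Nat.beq r i) true ih) roots) true
      (cond (Nat.ble (Nat.add (field (Par i) 0) 1) n) (cond (inMask m (field (Par i) 0))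
        (cond (Nat.ble (Nat.add (field (Par (field (Par i) 0)) 2) 1) (field (Par i) 2))
          (Nat.beq (follow (tget Tb) (field (Par i) 0) (gens.getD (field (Par i) 1) [])) i) false)
        false) false)) true

/-- A code moved by a word over `gK`. -/
def moveCode (x : Nat × List Nat) (v : List Nat) : Nat × List Nat := (x.1, x.2 ++ expW gK v)

/-- The certificates of the stabilisers. -/
noncomputable def stabAt (i : Nat) : Bool :=
  cond (Nat.beq (SIdx i).length (MD.stab.getD i []).length)
    (allList (fun q : List Nat × (List Nat × List Nat) =>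
      cond (eqPt (moveCode (MD.X.getD i (0, [])) q.1) (MD.X.getD i (0, [])) q.2.1)
        (eqPt (moveCode (MD.Y.getD i (0, [])) q.1) (MD.Y.getD i (0, [])) q.2.2) false)
      ((SIdx i).zip (MD.stab.getD i []))) false

end Kernel

/-- The certified representatives of the orbits of the centraliser of `a` in `K2`. -/
noncomputable def kaAt (i : Nat) (q : Nat × List Nat ×
    (List (Nat × List Nat × List Nat) × List Nat) × (Nat × List Nat × List Nat)) : Bool :=
  cond (checkLetters 10 [proj (expW gK q.2.1)])
    (cond (Nat.beq (follow (tget Fi23.Top.Tb) MD.Pa (proj (expW gK q.2.1))) q.1)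
      (cond (walkPt MD.X MD.Y [1, 2, 1, 2, 1, 2] q.2.2.1.1 (MD.X.getD i (0, [])).1
        ((MD.X.getD i (0, [])).2 ++ (expW gK q.2.1).reverse)
        ((MD.X.getD i (0, [])).1, (MD.X.getD i (0, [])).2 ++ (expW gK q.2.1).reverse) q.2.2.1.2)
        (cond (Nat.beq (MD.X.getD i (0, [])).1 2)
          (cond (Nat.ble (Nat.add q.2.2.2.1 1) 8)
            (cond (Nat.beq (MD.X.getD q.2.2.2.1 (0, [])).1 2)
              (eqPt ((MD.X.getD i (0, [])).1,
                  (MD.X.getD i (0, [])).2 ++ (expW gK q.2.1).reverse ++ [2])
                (moveCode (MD.X.getD q.2.2.2.1 (0, [])) q.2.2.2.2.1) q.2.2.2.2.2) false) false) true)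
        false) false) false

/-- The single step on a code. -/
noncomputable def stepOK (s : Nat × List Nat × List Nat) (x : Nat × List Nat) : Bool :=
  cond (Nat.ble (Nat.add s.1 1) 8) (eqPt x (moveCode (MD.X.getD s.1 (0, [])) s.2.1) s.2.2) false

/-- `k` twice returns the second member of each pair. -/
noncomputable def kkAt (i : Nat) : Bool :=
  List.rec false (fun s _ _ =>
    cond (stepOK s (MD.Y.getD i (0, [])))
      (eqPt (moveCode (MD.Y.getD s.1 (0, [])) s.2.1) (MD.X.getD i (0, [])) (MD.kk.getD i ([], [])).2)
      false) (MD.kk.getD i ([], [])).1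

/-- `(k l)³` on the representatives. -/
noncomputable def klAt (i : Nat) : Bool :=
  walkPt MD.X MD.Y [1, 0, 1, 0, 1, 0] (MD.kl.getD i ([], [])).1 (MD.X.getD i (0, [])).1
    (MD.X.getD i (0, [])).2 (MD.X.getD i (0, [])) (MD.kl.getD i ([], [])).2

/-- A relator of the expected shape. -/
noncomputable def relShape (w : List Nat) : Bool :=
  cond (wordEq w [1, 1]) true (cond (wordEq w [0, 1, 0, 1, 0, 1]) true
    (cond (wordEq w [1, 2, 1, 2, 1, 2]) true
      (cond ([3, 4, 5, 6, 7, 8, 9, 10, 11].any fun x => decide (w = [1, x, 1, x])) true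
        (cond (allList (fun x => cond (Nat.beq x 1) false true) w) (oneA w) false))))

end CfsgLib.Coset.Fi24
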