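import Cfsg.Agent.Coset.Fi24.Range

/-!
`Cfsg.Spor.Fi24` has order `2 * |Fi₂₄′|` and the letters other than `k` generate a subgroup of
index 306936.
-/

set_option autoImplicit false
set_option maxRecDepth 100000
set_option Elab.async false

namespace CfsgLib.Coset.Fi24

theorem LP_all_rels : ∀ w ∈ pres.rels, ev (LP κ) w = 1 := by
  rw [rels_eq]
  intro w hw
  rcases List.mem_append.mp hw with h | h
  · exact LP_rels w h
  · rw [List.mem_singleton.mp h]; exact LP_zword

/-- The action on 306936 points. -/
noncomputable def ρ : Cfsg.Spor.Fi24 →* Equiv.Perm Om := pres.hom pres_ok LP_all_rels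

theorem ρ_fl {l : Nat} (hl : l < 12) : ρ (fl Lg l) = fl (LP κ) l := by
  obtain ⟨x, rfl⟩ := hix l hl
  exact pres.hom_fl pres_ok _ x

theorem range_ρ : ρ.range = Pgrp := by
  have h : ∀ (L : List (Equiv.Perm Om)), L = LP κ →
      ρ.range = Subgroup.closure {x | x ∈ L} ∧ Pgrp = Subgroup.closure {x | x ∈ L} := by
    rintro L rfl
    constructor
    · rw [MonoidHom.range_eq_map, ← frame.gen, MonoidHom.map_closure]
      congr 1
      ext y
      constructor
      · rintro ⟨x, hx, rfl⟩
        obtain ⟨l, hl, rfl⟩ := List.getElem_of_mem hx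
        have hl' : l < 12 := frame.len ▸ hl
        rw [← List.getD_eq_getElem Lg 1 hl]
        show ρ (fl Lg l) ∈ LP κ
        rw [ρ_fl hl', fl, List.getD_eq_getElem _ _ (by simpa [LP] using hl')]
        exact List.getElem_mem _
      · intro hy
        obtain ⟨l, hl, rfl⟩ := List.getElem_of_mem hy
        have hl' : l < 12 := by simpa [LP] using hl
        refine ⟨fl Lg l, ?_, ?_⟩
        · show fl Lg l ∈ Lg
          rw [fl, List.getD_eq_getElem Lg 1 (frame.len.symm ▸ hl')]; exact List.getElem_mem _
        · rw [ρ_fl hl', fl, List.getD_eq_getElem _ _ hl]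
    · rw [Pgrp, MonoidHom.range_eq_map, ← frame0.gen, MonoidHom.map_closure]
      congr 1
      ext y
      constructor
      · rintro ⟨x, hx, rfl⟩
        obtain ⟨l, hl, rfl⟩ := List.getElem_of_mem hx
        have hl' : l < 12 := frame0.len ▸ hl
        rw [← List.getD_eq_getElem Lg0 1 hl]
        show ρ0 (fl Lg0 l) ∈ LP κ
        rw [ρ0_fl hl', fl, List.getD_eq_getElem _ _ (by simpa [LP] using hl')]
        exact List.getElem_mem _
      · intro hy
        obtain ⟨l, hl, rfl⟩ := List.getElem_of_mem hy
        have hl' : l < 12 := by simpa [LP] using hl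
        refine ⟨fl Lg0 l, ?_, ?_⟩
        · show fl Lg0 l ∈ Lg0
          rw [fl, List.getD_eq_getElem Lg0 1 (frame0.len.symm ▸ hl')]; exact List.getElem_mem _
        · rw [ρ0_fl hl', fl, List.getD_eq_getElem _ _ hl]
  obtain ⟨h1, h2⟩ := h _ rfl
  rw [h1, h2]

theorem card_eq : Nat.card Cfsg.Spor.Fi24 = 2510411418381323442585600 := by
  haveI := card_le.1
  refine le_antisymm card_le.2 ?_
  rw [← card_Pgrp, ← range_ρ]
  exact Nat.card_le_card_of_surjective _ ρ.rangeRestrict_surjective

theorem ρ_injective : Function.Injective ρ := by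
  haveI := card_le.1
  have h : Function.Bijective ρ.rangeRestrict :=
    (Nat.bijective_iff_surjective_and_card _).mpr ⟨ρ.rangeRestrict_surjective, by
      rw [card_eq, range_ρ, card_Pgrp]⟩
  exact fun x y hxy => h.1 (Subtype.ext hxy)

theorem ρ_Ψ (a : A) : ρ (frame.Ψ a) = act a := by
  have ha : a ∈ genBy la SH := closure_la ▸ Subgroup.mem_top a
  induction ha using Subgroup.closure_induction with
  | mem x hx =>
    obtain ⟨l, hl, rfl⟩ := List.mem_map.mp hx
    have h1 : l ≠ 1 := by rintro rfl; simp [SH] at hl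
    have h12 : l < 12 := (by decide +kernel : ∀ l ∈ SH, l < 12) l hl
    rw [frame.Ψ_fl h1, ρ_fl h12, fl_LP κ h1]
  | one => simp
  | mul a b _ _ ha hb => rw [map_mul, map_mul, map_mul, ha, hb]
  | inv a _ ha => rw [map_inv, map_inv, map_inv, ha]

theorem Ψ_injective : Function.Injective frame.Ψ := fun a b h =>
  act_injective (by rw [← ρ_Ψ, ← ρ_Ψ, h])

theorem index_HB : (HB Lg).index = 306936 := by
  haveI := card_le.1
  have h1 : Nat.card (HB Lg) = 8178940946586009600 := by
    rw [← frame.range_Ψ, ← card_A.2]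
    exact (Nat.card_congr (MonoidHom.ofInjective Ψ_injective).toEquiv).symm
  have h := Subgroup.card_mul_index (HB Lg)
  rw [h1, card_eq] at h
  omega

end CfsgLib.Coset.Fi24
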