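import Cfsg.Agent.Coset.Fi24.KBound

/-!
The action of `Fi23 × 2` on `1 + 31671 + 275264` points, and certificates for equalities of points
given by words.
-/

set_option autoImplicit false
set_option maxRecDepth 100000
set_option Elab.async false

namespace CfsgLib.Coset.Fi24

/-- The points. -/
abbrev Om : Type := Option (Fin 31671 ⊕ A ⧸ K2)

/-- The action of `A` on the cosets of `K2`. -/
noncomputable abbrev actQ : A →* Equiv.Perm (A ⧸ K2) := MulAction.toPermHom A (A ⧸ K2)

/-- The action of `A` on the points. -/
noncomputable def act : A →* Equiv.Perm Om :=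
  MonoidHom.mk' (fun a => Equiv.optionCongr (Equiv.sumCongr (σA a) (actQ a))) fun a b => by
    refine Equiv.ext fun ω => ?_
    rcases ω with _ | p | q
    · rfl
    · show some (Sum.inl (σA (a * b) p)) = some (Sum.inl (σA a (σA b p)))
      rw [map_mul]; rfl
    · show some (Sum.inr (actQ (a * b) q)) = some (Sum.inr (actQ a (actQ b q)))
      rw [map_mul]; rfl

theorem act_none (a : A) : act a none = none := rfl

theorem act_inl (a : A) (p : Fin 31671) : act a (some (.inl p)) = some (.inl (σA a p)) := rfl

theorem act_inr (a b : A) :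
    act a (some (.inr (QuotientGroup.mk b))) = some (.inr (QuotientGroup.mk (a * b))) := rfl

/-- The base points of the three kinds. -/
noncomputable def bpt : Nat → Om
  | 0 => none
  | 1 => some (.inl ⟨0, by decide⟩)
  | _ => some (.inr (QuotientGroup.mk (1 : A)))

/-- The point with the given kind and word. -/
noncomputable def pt (x : Nat × List Nat) : Om := (act (ev la x.2))⁻¹ (bpt x.1)

theorem pt_append (k : Nat) (w v : List Nat) :
    pt (k, w ++ v) = (act (ev la v))⁻¹ (pt (k, w)) := by
  simp only [pt, ev_append, map_mul, mul_inv_rev, Equiv.Perm.mul_apply]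

section Kernel

/-- Two codes give the same point; for the third kind the word `c` over `gK` is the witness. -/
noncomputable def eqPt (x y : Nat × List Nat) (c : List Nat) : Bool :=
  cond (Nat.beq x.1 y.1)
    (cond (Nat.beq x.1 0) true
      (cond (Nat.beq x.1 1)
        (cond (checkLetters 10 [proj x.2]) (cond (checkLetters 10 [proj y.2])
          (Nat.beq (follow (tget Fi23.Top.Tb) 0 (proj x.2))
            (follow (tget Fi23.Top.Tb) 0 (proj y.2))) false) false)
        (oneA (expW gK c ++ (x.2 ++ y.2.reverse).reverse)))) false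

/-- Follow a word from a code, with a certificate for each step by `k`: the listed pair, the word
over `gK` and the witness. -/
noncomputable def walkPt (X Y : List (Nat × List Nat)) (word : List Nat)
    (steps : List (Nat × List Nat × List Nat)) (k : Nat) (w : List Nat)
    (fin : Nat × List Nat) (endc : List Nat) : Bool :=
  List.rec (motive := fun _ => List (Nat × List Nat × List Nat) → Nat → List Nat → Bool)
    (fun _ k w => eqPt (k, w) fin endc)
    (fun l _ ih steps k w =>
      cond (Nat.beq l 1)
        (List.rec false (fun s rest _ =>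
          cond (cond (Nat.ble (Nat.add s.1 1) X.length) (eqPt (k, w)
              ((X.getD s.1 (0, [])).1, (X.getD s.1 (0, [])).2 ++ expW gK s.2.1) s.2.2) false)
            (ih rest (Y.getD s.1 (0, [])).1 ((Y.getD s.1 (0, [])).2 ++ expW gK s.2.1)) false) steps)
        (ih steps k (w ++ [l]))) word steps k w

end Kernel

theorem pt_eq {x y : Nat × List Nat} {c : List Nat} (h : eqPt x y c = true) : pt x = pt y := by
  obtain ⟨k, w⟩ := x
  obtain ⟨k', v⟩ := y
  unfold eqPt at h
  rw [cond_false_eq_true] at h
  obtain ⟨hk, h⟩ := h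
  have hk' : k = k' := Nat.eq_of_beq_eq_true hk
  subst hk'
  match k with
  | 0 => simp [pt, bpt, ← map_inv, act_none]
  | 1 =>
    change cond (checkLetters 10 [proj w]) _ false = true at h
    simp only [cond_false_eq_true] at h
    obtain ⟨h1, h2, h3⟩ := h
    have hl : ∀ u : List Nat, checkLetters 10 [proj u] = true →
        (((σA (ev la u))⁻¹ ⟨0, by decide⟩ : Fin 31671) : Nat) =
          follow (tget Fi23.Top.Tb) 0 (proj u) := by
      intro u hu
      rw [show σA (ev la u) = Fi23.ρ (ev Fi23.Lg (proj u)) by
        rw [MonoidHom.comp_apply, MonoidHom.coe_fst, fst_ev]]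
      exact Fi23.matches_ρ.follow_eq (proj u) _
        (fun l hm => by rw [Fi23.len_Lg]; exact letters_lt hu _ (List.mem_singleton_self _) l hm)
    show (act (ev la w))⁻¹ (bpt 1) = (act (ev la v))⁻¹ (bpt 1)
    rw [← map_inv, ← map_inv, bpt, act_inl, act_inl, map_inv, map_inv]
    exact congrArg some (congrArg Sum.inl
      (Fin.ext (by rw [hl w h1, hl v h2, Nat.eq_of_beq_eq_true h3])))
  | m + 2 =>
    change oneA (expW gK c ++ (w ++ v.reverse).reverse) = true at h
    have h1 := eq_one_of_oneA h
    rw [ev_append, ev_reverse_la, mul_inv_eq_one, ev_append, ev_reverse_la] at h1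
    show (act (ev la w))⁻¹ (bpt (m + 2)) = (act (ev la v))⁻¹ (bpt (m + 2))
    rw [← map_inv, ← map_inv, bpt, act_inr, act_inr]
    · refine congrArg some (congrArg Sum.inr (QuotientGroup.eq.mpr ?_))
      have := ev_expW_mem la gK c
      simpa [K2, mul_assoc, ← h1] using this
    all_goals omega

/-- The permutations of the twelve letters, given one for `k`. -/
noncomputable def LP (κ : Equiv.Perm Om) : List (Equiv.Perm Om) :=
  (List.range 12).map fun l => if l = 1 then κ else act (fl la l)

theorem fl_LP_one (κ : Equiv.Perm Om) : fl (LP κ) 1 = κ := by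
  simp [fl, LP, List.getD_eq_getElem?_getD]

theorem fl_LP (κ : Equiv.Perm Om) {l : Nat} (h : l ≠ 1) : fl (LP κ) l = act (fl la l) := by
  rcases lt_or_ge l 12 with hl | hl
  · simp [fl, LP, List.getD_eq_getElem?_getD, hl, h]
  · rw [fl_of_le _ (by simp [LP, hl]), fl_of_le _ (len_la ▸ hl), map_one]

theorem ev_LP (κ : Equiv.Perm Om) : ∀ w : List Nat, (∀ x ∈ w, x ≠ 1) →
    ev (LP κ) w = act (ev la w) := by
  intro w
  induction w with
  | nil => simp
  | cons x w ih =>
    intro hw
    rw [ev_cons, ev_cons, map_mul, fl_LP κ (hw x (by simp)), ih fun y hy => hw y (by simp [hy])]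

theorem walkPt_sound {κ : Equiv.Perm Om} {X Y : List (Nat × List Nat)}
    (hκ : ∀ i < X.length, ∀ a ∈ K2, κ (act a (pt (X.getD i (0, [])))) = act a (pt (Y.getD i (0, []))))
    (hκ2 : κ * κ = 1) : ∀ (word : List Nat) (steps : List (Nat × List Nat × List Nat)) (k : Nat)
      (w : List Nat) (fin : Nat × List Nat) (endc : List Nat),
      walkPt X Y word steps k w fin endc = true →
        (ev (LP κ) word)⁻¹ (pt (k, w)) = pt fin := by
  intro word
  induction word with
  | nil =>
    intro steps k w fin endc h
    rw [ev_nil, inv_one, Equiv.Perm.one_apply]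
    exact pt_eq h
  | cons l word ih =>
    intro steps k w fin endc h
    rw [ev_cons, mul_inv_rev, Equiv.Perm.mul_apply]
    unfold walkPt at h
    change cond (Nat.beq l 1) _ (walkPt X Y word steps k (w ++ [l]) fin endc) = true at h
    cases hl : Nat.beq l 1
    · rw [hl, cond_false] at h
      rw [fl_LP κ (Nat.ne_of_beq_eq_false hl),
        show (act (fl la l))⁻¹ (pt (k, w)) = pt (k, w ++ [l]) by rw [pt_append]; simp]
      exact ih _ _ _ _ _ h
    · rw [hl, cond_true] at h
      rw [Nat.eq_of_beq_eq_true hl, fl_LP_one]
      match steps with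
      | [] => simp at h
      | s :: rest =>
        change cond (cond _ _ false) (walkPt X Y word rest _ _ fin endc) false = true at h
        simp only [cond_false_eq_true] at h
        obtain ⟨⟨hi, he⟩, h⟩ := h
        have hinv : κ⁻¹ = κ := inv_eq_of_mul_eq_one_right hκ2
        rw [hinv, pt_eq he, pt_append, ← map_inv,
          hκ _ (Nat.ble_eq.mp hi) _ (inv_mem (ev_expW_mem la gK s.2.1)), map_inv, ← pt_append]
        exact ih _ _ _ _ _ h

end CfsgLib.Coset.Fi24
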