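import Cfsg.Agent.Coset.Fi24.Kappa
import Cfsg.Agent.Coset.Fi23Out.Out

/-!
The group generated on the points has the order of `Fi₂₄`: the stabiliser of the fixed point is the
image of `Fi23 × 2`.
-/

set_option autoImplicit false
set_option maxRecDepth 100000
set_option Elab.async false

namespace CfsgLib.Coset.Fi24

theorem ρ0_fl {l : Nat} (hl : l < 12) : ρ0 (fl Lg0 l) = fl (LP κ) l := by
  obtain ⟨x, rfl⟩ := hix l hl
  exact pres0.hom_fl pres0_ok _ x

theorem ρ0_ev : ∀ w : List Nat, (∀ x ∈ w, x < 12) → ρ0 (ev Lg0 w) = ev (LP κ) w := by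
  intro w
  induction w with
  | nil => simp
  | cons x w ih =>
    intro hw
    rw [ev_cons, ev_cons, map_mul, ρ0_fl (hw x (by simp)), ih fun y hy => hw y (by simp [hy])]

/-- The group generated on the points. -/
noncomputable abbrev Pgrp : Subgroup (Equiv.Perm Om) := ρ0.range

theorem card_Pgrp_le : Nat.card Pgrp ≤ 3 * 2510411418381323442585600 := by
  haveI := card_G0_le.1
  exact (Nat.card_le_card_of_surjective _ ρ0.rangeRestrict_surjective).trans card_G0_le.2

theorem act_mem (a : A) : act a ∈ Pgrp := by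
  have ha : a ∈ genBy la SH := closure_la ▸ Subgroup.mem_top a
  induction ha using Subgroup.closure_induction with
  | mem x hx =>
    obtain ⟨l, hl, rfl⟩ := List.mem_map.mp hx
    have h1 : l ≠ 1 := by rintro rfl; simp [SH] at hl
    have h12 : l < 12 := (by decide +kernel : ∀ l ∈ SH, l < 12) l hl
    exact ⟨fl Lg0 l, by rw [ρ0_fl h12, fl_LP κ h1]⟩
  | one => rw [map_one]; exact one_mem _
  | mul a b _ _ ha hb => rw [map_mul]; exact mul_mem ha hb
  | inv a _ ha => rw [map_inv]; exact inv_mem ha

theorem κ_mem : κ ∈ Pgrp := ⟨fl Lg0 1, by rw [ρ0_fl (by norm_num), fl_LP_one]⟩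

/-- The point `K2`. -/
noncomputable def pK : Om := some (.inr (QuotientGroup.mk (1 : A)))

theorem pt_two : pt (2, []) = pK := by simp [pt, bpt, pK]

theorem κ_px (i : Fin 8) : κ (px i) = py i := by
  have := kap_pair i (one_mem K2)
  rwa [map_one, Equiv.Perm.one_apply, Equiv.Perm.one_apply] at this

theorem transitive_P (ω : Om) : ∃ g ∈ Pgrp, g none = ω := by
  have h2 : ∀ b : A, ∃ g ∈ Pgrp, g none = some (.inr (QuotientGroup.mk b)) := by
    intro b
    refine ⟨act b * κ, mul_mem (act_mem b) κ_mem, ?_⟩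
    have e : px 0 = none := by
      rw [px, show MD.X.getD ((0 : Fin 8) : Nat) (0, []) = (0, []) by decide +kernel]; simp [pt, bpt]
    have e' : py 0 = pK := by
      rw [py, show MD.Y.getD ((0 : Fin 8) : Nat) (0, []) = (2, []) by decide +kernel, pt_two]
    rw [Equiv.Perm.mul_apply, ← e, κ_px, e', pK, act_inr, mul_one]
  rcases ω with _ | p | c
  · exact ⟨1, one_mem _, rfl⟩
  · -- the fifth pair joins the two large orbits
    obtain ⟨hx, hy⟩ : (MD.X.getD ((4 : Fin 8) : Nat) (0, [])).1 = 2 ∧
        (MD.Y.getD ((4 : Fin 8) : Nat) (0, [])).1 = 1 := by decide +kernel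
    have e : py 4 = some (.inl ((σA (ev la (MD.Y.getD ((4 : Fin 8) : Nat) (0, [])).2))⁻¹ ⟨0, by decide⟩)) := by
      rw [py, pt, hy, ← map_inv, bpt, act_inl, map_inv]
    have e' : ∃ b : A, px 4 = some (.inr (QuotientGroup.mk b)) := by
      rw [px, pt, hx, ← map_inv, bpt]
      · exact ⟨_, act_inr _ _⟩
      all_goals omega
    obtain ⟨b, hb⟩ := e'
    obtain ⟨g, hg, hge⟩ := h2 b
    set q := (σA (ev la (MD.Y.getD ((4 : Fin 8) : Nat) (0, [])).2))⁻¹ ⟨0, by decide⟩ with hq
    obtain ⟨x, hx'⟩ := Fi23.transitive p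
    obtain ⟨y, hy'⟩ := Fi23.transitive q
    refine ⟨act (x * y⁻¹, 1) * (κ * g), mul_mem (act_mem _) (mul_mem κ_mem hg), ?_⟩
    rw [Equiv.Perm.mul_apply, Equiv.Perm.mul_apply, hge, ← hb, κ_px, e, act_inl]
    refine congrArg some (congrArg Sum.inl ?_)
    show Fi23.ρ (x * y⁻¹) q = p
    rw [map_mul, Equiv.Perm.mul_apply, ← hy', map_inv, Equiv.Perm.inv_def, Equiv.symm_apply_apply, hx']
  · induction c using QuotientGroup.induction_on with
    | _ b => exact h2 b

/-- The stabiliser of the fixed point. -/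
noncomputable def Sst : Subgroup (Equiv.Perm Om) :=
  Pgrp ⊓ MulAction.stabilizer (Equiv.Perm Om) (none : Om)

theorem card_Pgrp_eq : Nat.card Pgrp = 306936 * Nat.card Sst := by
  haveI := card_A.1
  have h := Nat.card_congr (MulAction.orbitProdStabilizerEquivGroup Pgrp (none : Om))
  have ho : MulAction.orbit Pgrp (none : Om) = Set.univ := Set.eq_univ_of_forall fun ω => by
    obtain ⟨g, hg, rfl⟩ := transitive_P ω; exact ⟨⟨g, hg⟩, rfl⟩
  rw [← h, Nat.card_prod, Nat.card_coe_set_eq, ho, Set.ncard_univ, card_Om]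
  congr 1
  have e : MulAction.stabilizer Pgrp (none : Om) = Sst.subgroupOf Pgrp := by
    ext g
    rw [MulAction.mem_stabilizer_iff, Subgroup.mem_subgroupOf, Sst, Subgroup.mem_inf,
      MulAction.mem_stabilizer_iff]
    exact ⟨fun h => ⟨g.2, h⟩, fun h => h.2⟩
  rw [e]
  exact Nat.card_congr (Subgroup.subgroupOfEquivOfLe (inf_le_left : Sst ≤ Pgrp)).toEquiv

theorem act_injective : Function.Injective act := by
  rw [injective_iff_map_eq_one]
  intro a ha
  have h1 : a.1 = 1 := by
    apply Fi23.card_and_injective.2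
    rw [map_one]
    refine Equiv.ext fun p => ?_
    have := congrArg (fun g : Equiv.Perm Om => g (some (.inl p))) ha
    exact Sum.inl_injective (Option.some_injective _ this)
  have hK : a ∈ K2 := by
    have h2 := congrArg (fun g : Equiv.Perm Om => g pK) ha
    have h3 : (QuotientGroup.mk (a * 1) : A ⧸ K2) = QuotientGroup.mk 1 :=
      Sum.inr_injective (Option.some_injective _ h2)
    simpa using (QuotientGroup.eq.mp h3.symm)
  exact fst_injOn_K2 hK (one_mem K2) h1

theorem act_range_le : act.range ≤ Sst := by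
  rintro _ ⟨a, rfl⟩
  exact ⟨act_mem a, act_none a⟩

theorem card_act_range : Nat.card act.range = 8178940946586009600 := by
  rw [← card_A.2]
  exact (Nat.card_congr (MonoidHom.ofInjective act_injective).toEquiv).symm

/-- A homomorphism from `Fi23` into a group with at most six elements is trivial. -/
theorem hom_small {Q : Type*} [Group Q] [Finite Q] (hQ : Nat.card Q ≤ 6)
    (f : Cfsg.Spor.Fi23 →* Q) (x : Cfsg.Spor.Fi23) : f x = 1 := by
  haveI := Fi23.isSimple
  rcases f.normal_ker.eq_bot_or_eq_top with h | h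
  · have := Nat.card_le_card_of_injective f ((MonoidHom.ker_eq_bot_iff f).mp h)
    rw [Fi23.card_and_injective.1] at this
    omega
  · exact MonoidHom.mem_ker.mp (h ▸ Subgroup.mem_top x)

theorem conj_mem_range {s : Equiv.Perm Om} (hs : s ∈ Sst) (x : Cfsg.Spor.Fi23) :
    s * act (x, 1) * s⁻¹ ∈ act.range := by
  haveI := card_A.1
  haveI : Finite Sst := Subtype.finite
  set B := act.range.subgroupOf Sst
  let j : Cfsg.Spor.Fi23 →* Sst :=
    ((MulAut.conj s).toMonoidHom.comp (act.comp (MonoidHom.inl _ _))).codRestrict Sst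
      (fun y => mul_mem (mul_mem hs (act_range_le ⟨_, rfl⟩)) (inv_mem hs))
  have hidx : Nat.card (Sst ⧸ B) ≤ 3 := by
    have h1 := Subgroup.card_eq_card_quotient_mul_card_subgroup B
    have h2 : Nat.card B = 8178940946586009600 :=
      (Nat.card_congr (Subgroup.subgroupOfEquivOfLe act_range_le).toEquiv).trans card_act_range
    rw [h2] at h1
    have h3 := card_Pgrp_eq
    have h4 := card_Pgrp_le
    omega
  have hsix : Nat.card (Equiv.Perm (Sst ⧸ B)) ≤ 6 := by
    rw [Nat.card_perm]; exact (Nat.factorial_le hidx).trans (by decide)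
  have h := hom_small hsix ((MulAction.toPermHom Sst (Sst ⧸ B)).comp j) x
  have h' : MulAction.toPermHom Sst (Sst ⧸ B) (j x) (QuotientGroup.mk 1) = QuotientGroup.mk 1 := by
    change ((MulAction.toPermHom Sst (Sst ⧸ B)).comp j) x (QuotientGroup.mk 1) = _
    rw [h]; rfl
  have h'' : (QuotientGroup.mk (j x * 1) : Sst ⧸ B) = QuotientGroup.mk 1 := h'
  have := QuotientGroup.eq.mp h''.symm
  rw [inv_one, one_mul, mul_one] at this
  exact Subgroup.mem_subgroupOf.mp this

theorem exists_centralising {s : Equiv.Perm Om} (hs : s ∈ Sst) :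
    ∃ h : A, ∀ x : Cfsg.Spor.Fi23, Commute ((act h)⁻¹ * s) (act (x, 1)) := by
  haveI := card_A.1
  haveI := Fi23.card_le.1
  let θ : Cfsg.Spor.Fi23 →* A := (MonoidHom.ofInjective act_injective).symm.toMonoidHom.comp
    (((MulAut.conj s).toMonoidHom.comp (act.comp (MonoidHom.inl _ _))).codRestrict act.range
      (fun x => conj_mem_range hs x))
  have hθ : ∀ x, act (θ x) = s * act (x, 1) * s⁻¹ := by
    intro x
    exact congrArg Subtype.val ((MonoidHom.ofInjective act_injective).apply_symm_apply
      ⟨s * act (x, 1) * s⁻¹, conj_mem_range hs x⟩)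
  have hsnd : ∀ x, (θ x).2 = 1 := fun x =>
    hom_small (Q := Multiplicative (ZMod 2))
      (by rw [Nat.card_eq_fintype_card, Fintype.card_multiplicative, ZMod.card]; norm_num)
      ((MonoidHom.snd _ _).comp θ) x
  let η : Cfsg.Spor.Fi23 →* Cfsg.Spor.Fi23 := (MonoidHom.fst _ _).comp θ
  have hη : Function.Bijective η := by
    refine Finite.injective_iff_bijective.mp ((injective_iff_map_eq_one η).mpr fun x hx => ?_)
    have h1 : θ x = 1 := Prod.ext hx (hsnd x)
    have h2 := hθ x
    rw [h1, map_one] at h2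
    have h3 : act (x, 1) = act 1 := by
      rw [map_one]
      calc act (x, 1) = s⁻¹ * (s * act (x, 1) * s⁻¹) * s := by group
        _ = 1 := by rw [← h2]; group
    exact congrArg Prod.fst (act_injective h3)
  obtain ⟨g, hg⟩ := Fi23Out.inner_all (MulEquiv.ofBijective η hη)
  refine ⟨(g, 1), fun x => ?_⟩
  have hx : θ x = (g * x * g⁻¹, 1) := by
    refine Prod.ext ?_ (hsnd x)
    have := congrArg (fun φ : MulAut Cfsg.Spor.Fi23 => φ x) hg
    exact this.symm
  have e := hθ x
  rw [hx, show ((g * x * g⁻¹, 1) : A) = (g, 1) * (x, 1) * (g, 1)⁻¹ by simp, map_mul, map_mul,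
    map_inv] at e
  show (act (g, 1))⁻¹ * s * act (x, 1) = act (x, 1) * ((act (g, 1))⁻¹ * s)
  calc (act (g, 1))⁻¹ * s * act (x, 1) = (act (g, 1))⁻¹ * (s * act (x, 1) * s⁻¹) * s := by group
    _ = act (x, 1) * ((act (g, 1))⁻¹ * s) := by rw [← e]; group

theorem coset_rep (q : A ⧸ K2) : ∃ x : Cfsg.Spor.Fi23, q = QuotientGroup.mk ((x, 1) : A) := by
  induction q using QuotientGroup.induction_on with
  | _ b =>
    obtain ⟨x, e⟩ := b
    rcases (by decide +kernel : ∀ e : Multiplicative (ZMod 2), e = 1 ∨ e = tau) e with rfl | rfl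
    · exact ⟨x, rfl⟩
    · refine ⟨x * (ev la [3]).1, QuotientGroup.eq.mpr ?_⟩
      have hb : ev la [3] ∈ K2 := ev_mem_genW (by decide +kernel)
      have h2 : (ev la [3]).2 = tau := by
        rw [ev_la, show par2 [3] = 1 by decide +kernel, pow_one]
      have : ((x, tau) : A)⁻¹ * (x * (ev la [3]).1, 1) = ev la [3] := by
        refine Prod.ext ?_ ?_
        · simp
        · rw [h2]
          show tau⁻¹ * 1 = tau
          rw [mul_one, inv_eq_of_mul_eq_one_right tau_sq]
      rw [this]; exact hb

theorem fixed_by_H_inl {c : Equiv.Perm Om} (hc : c none = none)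
    (hcomm : ∀ x : Cfsg.Spor.Fi23, Commute c (act (x, 1))) (p : Fin 31671) :
    c (some (.inl p)) = some (.inl p) := by
  haveI := card_A.1
  set z : Fin 31671 := ⟨0, by decide⟩
  have hmove : ∀ x ω, c (act (x, 1) ω) = act (x, 1) (c ω) := fun x ω => by
    rw [← Equiv.Perm.mul_apply, (hcomm x).eq, Equiv.Perm.mul_apply]
  suffices h0 : c (some (.inl z)) = some (.inl z) by
    obtain ⟨x, hx⟩ := Fi23.transitive p
    have e : act (x, 1) (some (.inl z)) = some (.inl p) := by rw [act_inl]; exact congrArg _ (congrArg _ hx)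
    rw [← e, hmove, h0]
  have hfix : ∀ x ∈ Fi23.H, act (x, 1) (c (some (.inl z))) = c (some (.inl z)) := by
    intro x hx
    rw [← hmove, act_inl]
    rw [Fi23.index_and_eq.2] at hx
    exact congrArg c (congrArg some (congrArg Sum.inl hx))
  generalize hω : c (some (.inl z)) = ω at hfix
  rcases ω with _ | p | q
  · exact absurd (c.injective (hω.trans hc.symm)) (by simp)
  · by_contra hne
    have hp : (p : Nat) ≠ 0 := fun h => hne (by rw [show p = z from Fin.ext h])
    obtain ⟨cert, hmem, hcov⟩ := orbits_cover Fi23.matches_ρ Fi23.orbits_ok Fi23.subs_letters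
      Fi23.cover_ok p hp
    have hptlt : cert.pt < 31671 ∧ 1 < cert.size := by
      simp only [Fi23.Orb.certs, List.mem_cons, List.not_mem_nil, or_false] at hmem
      rcases hmem with rfl | rfl <;> exact ⟨by norm_num, by norm_num⟩
    obtain ⟨g, hg, hge⟩ := hcov ⟨cert.pt, hptlt.1⟩ rfl
    have hfx : ∀ x ∈ Fi23.H, Fi23.ρ x p = p := fun x hx =>
      Sum.inl_injective (Option.some_injective _ (hfix x hx))
    have hsub : orb Fi23.ρ Fi23.H ⟨cert.pt, hptlt.1⟩ ⊆ {p} := by
      rintro _ ⟨y, hy, rfl⟩
      have : Fi23.ρ g⁻¹ p = ⟨cert.pt, hptlt.1⟩ := by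
        rw [← hge, map_inv, Equiv.Perm.inv_def, Equiv.symm_apply_apply]
      rw [← this, ← Equiv.Perm.mul_apply, ← map_mul]
      exact hfx _ (mul_mem hy (inv_mem hg))
    have h1 := orbits_ncard Fi23.matches_ρ Fi23.orbits_ok Fi23.subs_letters hmem
      ⟨cert.pt, hptlt.1⟩ rfl
    have := (Set.ncard_le_ncard hsub).trans (Set.ncard_singleton p).le
    change (orb Fi23.ρ (genW Fi23.Lg Fi23.Top.subs) ⟨cert.pt, hptlt.1⟩).ncard ≤ 1 at this
    omega
  · exfalso
    induction q using QuotientGroup.induction_on with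
    | _ b =>
    have hmem : ∀ x ∈ Fi23.H, b⁻¹ * (x, 1) * b ∈ K2 := by
      intro x hx
      have h := (hfix x hx).symm
      rw [act_inr] at h
      have := QuotientGroup.eq.mp (Sum.inr_injective (Option.some_injective _ h))
      simpa [mul_assoc] using this
    let f : Fi23.H → K2 := fun x => ⟨b⁻¹ * ((x : Cfsg.Spor.Fi23), 1) * b, hmem x x.2⟩
    have hf : Function.Injective f := fun x y h => by
      have := congrArg Subtype.val h
      simp only [f, mul_left_inj, mul_right_inj] at this
      exact Subtype.ext (congrArg Prod.fst this)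
    have h1 := Nat.card_le_card_of_injective f hf
    rw [card_K2.1] at h1
    have := card_H22
    omega

theorem centralising_eq {c : Equiv.Perm Om} (hc : c none = none)
    (hcomm : ∀ x : Cfsg.Spor.Fi23, Commute c (act (x, 1))) : c ∈ act.range := by
  haveI := card_A.1
  have hinl := fixed_by_H_inl hc hcomm
  have hmove : ∀ x ω, c (act (x, 1) ω) = act (x, 1) (c ω) := fun x ω => by
    rw [← Equiv.Perm.mul_apply, (hcomm x).eq, Equiv.Perm.mul_apply]
  obtain ⟨i, k, hk, hik⟩ := cover (c pK)
  have hfix : ∀ x ∈ K2, x.2 = 1 → act x (c pK) = c pK := by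
    intro x hx h2
    have e : x = (x.1, 1) := Prod.ext rfl h2
    rw [e, ← hmove, ← e, pK]
    refine congrArg c ?_
    rw [act_inr, mul_one]
    exact congrArg some (congrArg Sum.inr (QuotientGroup.eq.mpr (by simpa using inv_mem hx)))
  have hsmall : MD.sizes.getD i 0 ≤ 2 := by
    rw [← orbit_size i]
    have hb : ev la [3] ∈ K2 := ev_mem_genW (by decide +kernel)
    have hsub : (Set.range fun k : K2 => act k (px i)) ⊆ {c pK, act (ev la [3]) (c pK)} := by
      rintro _ ⟨⟨j, hj⟩, rfl⟩
      have e : act j (px i) = act (j * k⁻¹) (c pK) := by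
        rw [← hik, ← Equiv.Perm.mul_apply, ← map_mul, inv_mul_cancel_right]
      show act j (px i) ∈ _
      rw [e]
      set m := j * k⁻¹
      have hm : m ∈ K2 := mul_mem hj (inv_mem hk)
      rcases (by decide +kernel : ∀ e : Multiplicative (ZMod 2), e = 1 ∨ e = tau) m.2 with h | h
      · exact Or.inl (hfix m hm h)
      · refine Or.inr ?_
        have h3 : ((ev la [3])⁻¹ * m).2 = 1 := by
          rw [Prod.snd_mul, Prod.snd_inv, h, ev_la, show par2 [3] = 1 by decide +kernel, pow_one,
            inv_mul_cancel]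
        have := hfix _ (mul_mem (inv_mem hb) hm) h3
        rw [map_mul, Equiv.Perm.mul_apply, map_inv, Equiv.Perm.inv_def, Equiv.symm_apply_eq] at this
        exact this
    exact (Set.ncard_le_ncard hsub).trans ((Set.ncard_insert_le _ _).trans (by simp))
  have hne : c pK ≠ none := fun h => absurd (c.injective (h.trans hc.symm)) (by simp [pK])
  have hcases : ∃ w : List Nat, (w = [] ∨ w = [0]) ∧ c pK = pt (2, w) := by
    have key : ∀ i : Fin 8, MD.sizes.getD i 0 ≤ 2 → (MD.X.getD i (0, [])).1 = 0 ∨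
        MD.X.getD i (0, []) = (2, []) ∨ MD.X.getD i (0, []) = (2, [0]) := by decide +kernel
    have hk' : ∀ w : List Nat, (w = [] ∨ w = [0]) → act k (pt (2, w)) = pt (2, w) := by
      intro w hw
      have e : pt (2, w) = act (ev la w)⁻¹ pK := by simp [pt, bpt, pK, map_inv]
      have hz : Commute k (ev la w)⁻¹ := by
        rcases hw with rfl | rfl
        · simp
        · refine Commute.inv_right ?_
          rw [ev_cons, ev_nil, mul_one, fl_la_zero]
          exact Prod.ext (by simp) (mul_comm _ _)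
      rw [e, ← Equiv.Perm.mul_apply, ← map_mul, hz.eq, map_mul, Equiv.Perm.mul_apply, pK, act_inr,
        mul_one]
      exact congrArg _ (congrArg some (congrArg Sum.inr
        (QuotientGroup.eq.mpr (by simpa using inv_mem hk))))
    rcases key i hsmall with h | h | h
    · refine absurd ?_ hne
      rw [← hik, px, pt, h, ← map_inv, bpt, act_none, act_none]
    · refine ⟨[], Or.inl rfl, ?_⟩
      rw [← hik, px, h, hk' [] (Or.inl rfl)]
    · refine ⟨[0], Or.inr rfl, ?_⟩
      rw [← hik, px, h, hk' [0] (Or.inr rfl)]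
  obtain ⟨w, hw, hcw⟩ := hcases
  set ε : A := (ev la w)⁻¹ with hε
  have hε1 : ε.1 = 1 := by
    rcases hw with rfl | rfl
    · simp [ε]
    · simp [ε, ev_cons, fl_la_zero]
  refine ⟨ε, (Equiv.ext fun ω => ?_)⟩
  rcases ω with _ | p | q
  · rw [act_none, hc]
  · rw [act_inl, hinl]
    refine congrArg some (congrArg Sum.inl ?_)
    show Fi23.ρ ε.1 p = p
    rw [hε1, map_one]; rfl
  · obtain ⟨x, rfl⟩ := coset_rep q
    have e : (some (.inr (QuotientGroup.mk ((x, 1) : A))) : Om) = act (x, 1) pK := by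
      rw [pK, act_inr, mul_one]
    have hcomm' : Commute ε ((x, 1) : A) := Prod.ext (by simp [hε1]) (mul_comm _ _)
    rw [e, hmove, hcw, ← Equiv.Perm.mul_apply, ← map_mul, hcomm'.eq, map_mul, Equiv.Perm.mul_apply]
    congr 1

theorem Sst_eq : Sst = act.range := by
  refine le_antisymm (fun s hs => ?_) act_range_le
  obtain ⟨h, hh⟩ := exists_centralising hs
  have hc : ((act h)⁻¹ * s) none = none := by
    rw [Equiv.Perm.mul_apply, show s none = none from hs.2, ← map_inv, act_none]
  have h1 := centralising_eq hc hh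
  have := mul_mem (MonoidHom.mem_range.mpr ⟨h, rfl⟩ : act h ∈ act.range) h1
  rwa [mul_inv_cancel_left] at this

theorem card_Pgrp : Nat.card Pgrp = 2510411418381323442585600 := by
  rw [card_Pgrp_eq, Sst_eq, card_act_range]

/-- The base: the fixed point, five points of the first orbit and `K2`. -/
noncomputable def basePts : List Om := MD.base.map pt

theorem base_ok : MD.base.map Prod.fst = [0, 2, 1, 1, 1, 1, 1] ∧
    (MD.base.drop 2).map (fun x => follow (tget Fi23.Top.Tb) 0 (proj x.2)) = [0, 1, 224, 1640, 2] ∧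
    MD.base.getD 0 (0, []) = (0, []) ∧ MD.base.getD 1 (0, []) = (2, []) ∧
    (MD.base.all fun x => checkLetters 10 [proj x.2]) = true := by
  decide +kernel

theorem eq_one_of_base {g : Equiv.Perm Om} (hg : g ∈ Pgrp) (h : ∀ x ∈ MD.base, g (pt x) = pt x) :
    g = 1 := by
  haveI := card_A.1
  obtain ⟨hk, hpts, h0, h1, hl⟩ := base_ok
  have hlen : MD.base.length = 7 := by simpa using congrArg List.length hk
  have hg0 : g none = none := by
    have := h (MD.base.getD 0 (0, [])) (by rw [List.getD_eq_getElem _ _ (by omega)]; exact List.getElem_mem _)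
    rw [h0] at this
    simpa [pt, bpt] using this
  obtain ⟨a, rfl⟩ : g ∈ act.range := Sst_eq ▸ (⟨hg, hg0⟩ : g ∈ Sst)
  have ha1 : a.1 = 1 := by
    have hb : a.1 ∈ baseStab Fi23.ρ Fi23.base := by
      refine (mem_foldl_inf Fi23.base ⊤).mpr ⟨trivial, fun b hb => ?_⟩
      have hb' : (b : Nat) ∈ [0, 1, 224, 1640, 2] := by
        have := (List.mem_map (f := Fin.val) (l := Fi23.base)).mpr ⟨b, hb, rfl⟩
        exact (show Fi23.base.map Fin.val = [0, 1, 224, 1640, 2] by decide +kernel) ▸ this
      rw [← hpts, List.mem_map] at hb'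
      obtain ⟨x, hx, hxb⟩ := hb'
      have hx' := List.mem_of_mem_drop hx
      have hk1 : x.1 = 1 := by
        have : ∀ x ∈ MD.base.drop 2, x.1 = 1 := by decide +kernel
        exact this x hx
      have hlx : checkLetters 10 [proj x.2] = true := List.all_eq_true.mp hl x hx'
      have := h x hx'
      rw [pt, hk1, ← map_inv, bpt, act_inl, act_inl] at this
      have e : σA ((ev la x.2)⁻¹) ⟨0, by decide⟩ = b := Fin.ext (by
        rw [map_inv, σA_ev_inv _ hlx]; exact hxb)
      rw [e] at this
      exact Sum.inl_injective (Option.some_injective _ this)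
    rwa [Fi23.base_bot, Subgroup.mem_bot] at hb
  have ha2 : a ∈ K2 := by
    have := h (MD.base.getD 1 (0, [])) (by rw [List.getD_eq_getElem _ _ (by omega)]; exact List.getElem_mem _)
    rw [h1, pt_two, pK, act_inr, mul_one] at this
    simpa using QuotientGroup.eq.mp (Sum.inr_injective (Option.some_injective _ this)).symm
  rw [fst_injOn_K2 ha2 (one_mem K2) ha1, map_one]

/-- The long relator returns each base point. -/
noncomputable def zAt (i : Nat) : Bool :=
  walkPt MD.X MD.Y zword (MD.u.getD i ([], [])).1 (MD.base.getD i (0, [])).1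
    (MD.base.getD i (0, [])).2 (MD.base.getD i (0, [])) (MD.u.getD i ([], [])).2

theorem z_walks : allBelow 3 7 zAt = true := by decide +kernel

theorem LP_zword : ev (LP κ) zword = 1 := by
  have hmem : ev (LP κ) zword ∈ Pgrp := ⟨ev Lg0 zword, ρ0_ev _ (by decide +kernel)⟩
  refine eq_one_of_base hmem fun x hx => ?_
  obtain ⟨i, hi, rfl⟩ := List.getElem_of_mem hx
  have hlen : MD.base.length = 7 := by decide +kernel
  have h := walkPt_sound hκ κ_sq _ _ _ _ _ _ (of_allBelow z_walks i (hlen ▸ hi))
  rw [List.getD_eq_getElem _ _ hi, Equiv.Perm.inv_def, Equiv.symm_apply_eq] at h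
  exact h.symm

end CfsgLib.Coset.Fi24
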