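import Cfsg.Agent.Coset.Fi24.ThreeTransp
import Cfsg.Agent.Coset.Fi24K.He
import Cfsg.Agent.Coset.HeInFi24
import Cfsg.Agent.Coset.He.Order

/-! The Fischer group of order `2 · 1255205709190661721292800` as a 3-transposition group. -/

set_option autoImplicit false
set_option maxRecDepth 100000
set_option Elab.async false
set_option linter.style.haveILetI false

namespace CfsgLib.Coset.Fi24

open CfsgLib.Coset

theorem isFi23_congr {H : Type*} [Group H] (e : Cfsg.Spor.Fi23 ≃* H) : Cfsg.IsFi23 H := by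
  obtain ⟨hs, hc⟩ := Fi23.isFi23
  haveI := hs
  exact ⟨MulEquiv.isSimpleGroup e.symm, by rw [← hc]; exact (Nat.card_congr e.toEquiv).symm⟩

theorem isHe_congr {H : Type*} [Group H] (e : Cfsg.Spor.He ≃* H) : Cfsg.IsHe H := by
  obtain ⟨hs, hc⟩ := He.isHe
  haveI := hs
  exact ⟨MulEquiv.isSimpleGroup e.symm, by rw [← hc]; exact (Nat.card_congr e.toEquiv).symm⟩

/-- `Fi23` inside the centraliser of the transposition. -/
theorem inl_injective :
    Function.Injective (frame.Ψ.comp (MonoidHom.inl Cfsg.Spor.Fi23 (Multiplicative (ZMod 2)))) :=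
  Ψ_injective.comp fun _ _ h => congrArg Prod.fst h

theorem exists_he_fi24 : ∃ e : Cfsg.Spor.He →* Cfsg.Spor.Fi24, Function.Injective e :=
  Fi24K.exists_he (MonoidHom.id _) two_ne

theorem realization : ∃ (G : Type) (_ : Group G) (_ : Finite G),
    Nat.card G = 2 * 1255205709190661721292800 ∧ ∃ D : Set G,
    Cfsg.IsThreeTranspositionClass D ∧ Nat.card D = 306936 ∧
    (∀ d ∈ D, Nat.card (Subgroup.centralizer ({d} : Set G)) = 2 * 4089470473293004800 ∧
      ∃ K : Subgroup G, K ≤ Subgroup.centralizer ({d} : Set G) ∧ Cfsg.IsFi23 K) ∧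
    ∃ H : Subgroup G, H.index = 2 ∧ Cfsg.IsFi24' H ∧ (∃ K : Subgroup H, Cfsg.IsFi23 K) ∧
      (∃ K : Subgroup H, Cfsg.IsHe K) := by
  haveI := card_le.1
  refine ⟨Cfsg.Spor.Fi24, inferInstance, card_le.1, by rw [card_eq], conjugatesOf s, threeTransp,
    card_class, ?_, commutator Cfsg.Spor.Fi24, ?_, isFi24', ⟨emb.range, ?_⟩, ?_⟩
  · intro d hd
    obtain ⟨g, rfl⟩ := isConj_iff.mp hd
    set F := (frame.Ψ.comp (MonoidHom.inl Cfsg.Spor.Fi23 (Multiplicative (ZMod 2)))).range
    refine ⟨?_, F.map (MulAut.conj g).toMonoidHom, ?_, ?_⟩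
    · rw [← Nat.card_congr (centralizerConj g s).toEquiv, centralizer_s, ← frame.range_Ψ,
        ← Nat.card_congr (MonoidHom.ofInjective Ψ_injective).toEquiv, card_A.2]
    · rintro _ ⟨x, ⟨y, rfl⟩, rfl⟩
      have hxH : (frame.Ψ.comp (MonoidHom.inl Cfsg.Spor.Fi23 (Multiplicative (ZMod 2)))) y ∈
          Subgroup.centralizer ({s} : Set Cfsg.Spor.Fi24) := by
        rw [centralizer_s, ← frame.range_Ψ]; exact ⟨(y, 1), rfl⟩
      exact (centralizerConj g s ⟨_, hxH⟩).2
    · exact isFi23_congr ((MonoidHom.ofInjective inl_injective).trans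
        ((MulAut.conj g).subgroupMap F))
  · have h := Subgroup.card_mul_index (commutator Cfsg.Spor.Fi24)
    have hc : Nat.card (commutator Cfsg.Spor.Fi24) = 1255205709190661721292800 := card_Fi24'
    rw [hc, card_eq] at h
    omega
  · refine isFi23_congr (MonoidHom.ofInjective fun x y h => ?_)
    exact inl_injective (congrArg (fun z : Cfsg.Spor.Fi24' => (z : Cfsg.Spor.Fi24)) h)
  · obtain ⟨e, he⟩ := exists_he_fi24
    have hle : ∀ x, e x ∈ commutator Cfsg.Spor.Fi24 := fun x =>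
      HeInFi24.range_le_commutator e ⟨x, rfl⟩
    refine ⟨(e.codRestrict _ hle).range, isHe_congr (MonoidHom.ofInjective fun x y h => he ?_)⟩
    exact congrArg Subtype.val h

end CfsgLib.Coset.Fi24
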