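import Cfsg.Agent.Coset.Fi24.Model
import Cfsg.Agent.Coset.Fi24.ModelData

/-!
The stabilisers in `K2` of the eight pairs.
-/

set_option autoImplicit false
set_option maxRecDepth 100000
set_option Elab.async false

namespace CfsgLib.Coset.Fi24

/-- The words of the stabiliser of a pair, over `gK`. -/
def SIdx : Nat → List (List Nat)
  | 3 => MD.S1
  | 4 => MD.S1
  | 5 => MD.S1
  | 6 => MD.S2
  | 7 => MD.S3
  | _ => MD.S0

/-- The stabiliser of a pair. -/
noncomputable def SK (i : Nat) : Subgroup A := genW la ((SIdx i).map (expW gK))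

theorem SK_le (i : Nat) : SK i ≤ K2 := by
  rw [SK, genW, Subgroup.closure_le]
  rintro _ ⟨w, hw, rfl⟩
  obtain ⟨v, -, rfl⟩ := List.mem_map.mp hw
  exact ev_expW_mem la gK v

theorem SK_all : SK 0 = K2 := by
  rw [SK, K2, show (SIdx 0).map (expW gK) = gK by decide +kernel]

theorem orbit_S10 : checkOrbit Fi23.Top.Tb 200 22400 15 MD.C1L0W MD.C1L0P MD.C1L0Inv = true := by
  decide +kernel

theorem words_S10 : MD.C1L0W = MD.C1L0G.map (fun v => proj (expW (MD.S1.map (expW gK)) v)) := by
  decide +kernel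

theorem orbit_S11 : checkOrbit Fi23.Top.Tb 1491 7776 13 MD.C1L1W MD.C1L1P MD.C1L1Inv = true := by
  decide +kernel

theorem words_S11 : MD.C1L1W = MD.C1L1G.map (fun v => proj (expW (MD.S1.map (expW gK)) v)) := by
  decide +kernel

theorem orbit_S12 : checkOrbit Fi23.Top.Tb 0 6 3 MD.C1L2W MD.C1L2P MD.C1L2Inv = true := by
  decide +kernel

theorem words_S12 : MD.C1L2W = MD.C1L2G.map (fun v => proj (expW (MD.S1.map (expW gK)) v)) := by
  decide +kernel

theorem card_S1 : 1045094400 ≤ Nat.card (genW la (MD.S1.map (expW gK))) := by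
  haveI := card_A.1
  have := Fi23.card_le.1
  set U := MD.S1.map (expW gK)
  refine le_trans ?_ (Nat.card_le_card_of_surjective _
    ((MonoidHom.fst Cfsg.Spor.Fi23 (Multiplicative (ZMod 2))).subgroupMap_surjective (genW la U)))
  rw [map_fst_genW]
  set T := genW Fi23.Lg (U.map proj)
  have hmem : ∀ vs ws : List (List Nat), ws = vs.map (fun v => proj (expW U v)) → ∀ w ∈ ws,
      ev Fi23.Lg w ∈ T := by
    intro vs ws hws w hw
    rw [hws] at hw
    obtain ⟨v, -, rfl⟩ := List.mem_map.mp hw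
    rw [proj_expW]
    exact ev_expW_mem _ _ v
  have h2 := orbit_step_in Fi23.matches_ρ T (base := [(200 : Fin 31671), (1491 : Fin 31671)]) (β := (0 : Fin 31671))
    (m := 6) (dm := 3) (gens := MD.C1L2W) (P := MD.C1L2P) (Inv := MD.C1L2Inv)
    orbit_S12 (by decide +kernel) (by decide +kernel) (hmem _ _ words_S12)
    (show 1 ≤ Nat.card (T ⊓ baseStab Fi23.ρ [(200 : Fin 31671), (1491 : Fin 31671), (0 : Fin 31671)] : Subgroup Cfsg.Spor.Fi23) from Nat.card_pos)
  have h1 := orbit_step_in Fi23.matches_ρ T (base := [(200 : Fin 31671)]) (β := (1491 : Fin 31671))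
    (m := 7776) (dm := 13) (gens := MD.C1L1W) (P := MD.C1L1P) (Inv := MD.C1L1Inv)
    orbit_S11 (by decide +kernel) (by decide +kernel) (hmem _ _ words_S11)
    h2
  have h0 := orbit_step_in Fi23.matches_ρ T (base := ([] : List (Fin 31671))) (β := (200 : Fin 31671))
    (m := 22400) (dm := 15) (gens := MD.C1L0W) (P := MD.C1L0P) (Inv := MD.C1L0Inv)
    orbit_S10 (by decide +kernel) (by decide +kernel) (hmem _ _ words_S10)
    h1
  simpa [baseStab] using h0

theorem orbit_S20 : checkOrbit Fi23.Top.Tb 28 25272 15 MD.C2L0W MD.C2L0P MD.C2L0Inv = true := by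
  decide +kernel

theorem words_S20 : MD.C2L0W = MD.C2L0G.map (fun v => proj (expW (MD.S2.map (expW gK)) v)) := by
  decide +kernel

theorem orbit_S21 : checkOrbit Fi23.Top.Tb 182 15120 14 MD.C2L1W MD.C2L1P MD.C2L1Inv = true := by
  decide +kernel

theorem words_S21 : MD.C2L1W = MD.C2L1G.map (fun v => proj (expW (MD.S2.map (expW gK)) v)) := by
  decide +kernel

theorem orbit_S22 : checkOrbit Fi23.Top.Tb 203 24 5 MD.C2L2W MD.C2L2P MD.C2L2Inv = true := by
  decide +kernel

theorem words_S22 : MD.C2L2W = MD.C2L2G.map (fun v => proj (expW (MD.S2.map (expW gK)) v)) := by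
  decide +kernel

theorem card_S2 : 9170703360 ≤ Nat.card (genW la (MD.S2.map (expW gK))) := by
  haveI := card_A.1
  have := Fi23.card_le.1
  set U := MD.S2.map (expW gK)
  refine le_trans ?_ (Nat.card_le_card_of_surjective _
    ((MonoidHom.fst Cfsg.Spor.Fi23 (Multiplicative (ZMod 2))).subgroupMap_surjective (genW la U)))
  rw [map_fst_genW]
  set T := genW Fi23.Lg (U.map proj)
  have hmem : ∀ vs ws : List (List Nat), ws = vs.map (fun v => proj (expW U v)) → ∀ w ∈ ws,
      ev Fi23.Lg w ∈ T := by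
    intro vs ws hws w hw
    rw [hws] at hw
    obtain ⟨v, -, rfl⟩ := List.mem_map.mp hw
    rw [proj_expW]
    exact ev_expW_mem _ _ v
  have h2 := orbit_step_in Fi23.matches_ρ T (base := [(28 : Fin 31671), (182 : Fin 31671)]) (β := (203 : Fin 31671))
    (m := 24) (dm := 5) (gens := MD.C2L2W) (P := MD.C2L2P) (Inv := MD.C2L2Inv)
    orbit_S22 (by decide +kernel) (by decide +kernel) (hmem _ _ words_S22)
    (show 1 ≤ Nat.card (T ⊓ baseStab Fi23.ρ [(28 : Fin 31671), (182 : Fin 31671), (203 : Fin 31671)] : Subgroup Cfsg.Spor.Fi23) from Nat.card_pos)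
  have h1 := orbit_step_in Fi23.matches_ρ T (base := [(28 : Fin 31671)]) (β := (182 : Fin 31671))
    (m := 15120) (dm := 14) (gens := MD.C2L1W) (P := MD.C2L1P) (Inv := MD.C2L1Inv)
    orbit_S21 (by decide +kernel) (by decide +kernel) (hmem _ _ words_S21)
    h2
  have h0 := orbit_step_in Fi23.matches_ρ T (base := ([] : List (Fin 31671))) (β := (28 : Fin 31671))
    (m := 25272) (dm := 15) (gens := MD.C2L0W) (P := MD.C2L0P) (Inv := MD.C2L0Inv)
    orbit_S20 (by decide +kernel) (by decide +kernel) (hmem _ _ words_S20)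
    h1
  simpa [baseStab] using h0

theorem orbit_S30 : checkOrbit Fi23.Top.Tb 20 19683 15 MD.C3L0W MD.C3L0P MD.C3L0Inv = true := by
  decide +kernel

theorem words_S30 : MD.C3L0W = MD.C3L0G.map (fun v => proj (expW (MD.S3.map (expW gK)) v)) := by
  decide +kernel

theorem orbit_S31 : checkOrbit Fi23.Top.Tb 26 1152 11 MD.C3L1W MD.C3L1P MD.C3L1Inv = true := by
  decide +kernel

theorem words_S31 : MD.C3L1W = MD.C3L1G.map (fun v => proj (expW (MD.S3.map (expW gK)) v)) := by
  decide +kernel

theorem orbit_S32 : checkOrbit Fi23.Top.Tb 0 6 3 MD.C3L2W MD.C3L2P MD.C3L2Inv = true := by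
  decide +kernel

theorem words_S32 : MD.C3L2W = MD.C3L2G.map (fun v => proj (expW (MD.S3.map (expW gK)) v)) := by
  decide +kernel

theorem card_S3 : 136048896 ≤ Nat.card (genW la (MD.S3.map (expW gK))) := by
  haveI := card_A.1
  have := Fi23.card_le.1
  set U := MD.S3.map (expW gK)
  refine le_trans ?_ (Nat.card_le_card_of_surjective _
    ((MonoidHom.fst Cfsg.Spor.Fi23 (Multiplicative (ZMod 2))).subgroupMap_surjective (genW la U)))
  rw [map_fst_genW]
  set T := genW Fi23.Lg (U.map proj)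
  have hmem : ∀ vs ws : List (List Nat), ws = vs.map (fun v => proj (expW U v)) → ∀ w ∈ ws,
      ev Fi23.Lg w ∈ T := by
    intro vs ws hws w hw
    rw [hws] at hw
    obtain ⟨v, -, rfl⟩ := List.mem_map.mp hw
    rw [proj_expW]
    exact ev_expW_mem _ _ v
  have h2 := orbit_step_in Fi23.matches_ρ T (base := [(20 : Fin 31671), (26 : Fin 31671)]) (β := (0 : Fin 31671))
    (m := 6) (dm := 3) (gens := MD.C3L2W) (P := MD.C3L2P) (Inv := MD.C3L2Inv)
    orbit_S32 (by decide +kernel) (by decide +kernel) (hmem _ _ words_S32)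
    (show 1 ≤ Nat.card (T ⊓ baseStab Fi23.ρ [(20 : Fin 31671), (26 : Fin 31671), (0 : Fin 31671)] : Subgroup Cfsg.Spor.Fi23) from Nat.card_pos)
  have h1 := orbit_step_in Fi23.matches_ρ T (base := [(20 : Fin 31671)]) (β := (26 : Fin 31671))
    (m := 1152) (dm := 11) (gens := MD.C3L1W) (P := MD.C3L1P) (Inv := MD.C3L1Inv)
    orbit_S31 (by decide +kernel) (by decide +kernel) (hmem _ _ words_S31)
    h2
  have h0 := orbit_step_in Fi23.matches_ρ T (base := ([] : List (Fin 31671))) (β := (20 : Fin 31671))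
    (m := 19683) (dm := 15) (gens := MD.C3L0W) (P := MD.C3L0P) (Inv := MD.C3L0Inv)
    orbit_S30 (by decide +kernel) (by decide +kernel) (hmem _ _ words_S30)
    h1
  simpa [baseStab] using h0

theorem card_SK (i : Fin 8) : 29713078886400 ≤ MD.sizes.getD i 0 * Nat.card (SK i) := by
  haveI := card_A.1
  fin_cases i
  all_goals first
    | (show 29713078886400 ≤ 1 * Nat.card (SK 0); rw [SK_all, card_K2.1, one_mul])
    | (show 29713078886400 ≤ 28431 * Nat.card (genW la (MD.S1.map (expW gK))); have := card_S1; omega)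
    | (show 29713078886400 ≤ 3240 * Nat.card (genW la (MD.S2.map (expW gK))); have := card_S2; omega)
    | (show 29713078886400 ≤ 218400 * Nat.card (genW la (MD.S3.map (expW gK))); have := card_S3; omega)

end CfsgLib.Coset.Fi24
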